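import Mathlib

/-!
# Cyclic matrices: Krylov bases, similarity, regular triangular matrices
-/

set_option autoImplicit false

namespace CfsgLib.SLCommutator

open Matrix Polynomial

variable {K : Type*} [Field K] {n : ℕ}

/-- The Krylov matrix of a vector. -/
def krylov (M : Matrix (Fin n) (Fin n) K) (e : Fin n → K) : Matrix (Fin n) (Fin n) K :=
  Matrix.of fun i j => ((M ^ j.val) *ᵥ e) i

/-- A matrix with a cyclic vector. -/
def IsCyc (M : Matrix (Fin n) (Fin n) K) : Prop := ∃ e, (krylov M e).det ≠ 0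

theorem pow_mulVec_expand (M : Matrix (Fin n) (Fin n) K) (e : Fin n → K) :
    (M ^ n) *ᵥ e = - ∑ i : Fin n, M.charpoly.coeff i • ((M ^ i.val) *ᵥ e) := by
  have hdeg : M.charpoly.natDegree = n := by rw [charpoly_natDegree_eq_dim, Fintype.card_fin]
  have h := Matrix.aeval_self_charpoly M
  rw [aeval_eq_sum_range, hdeg, Finset.sum_range_succ, Finset.sum_range] at h
  have hlead : M.charpoly.coeff n = 1 := by
    have := (charpoly_monic M).coeff_natDegree
    rwa [hdeg] at this
  rw [hlead, one_smul] at h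
  rw [eq_neg_of_add_eq_zero_right h, neg_mulVec, Matrix.sum_mulVec]
  simp only [smul_mulVec]

/-- The companion matrix of a list of coefficients. -/
def comp (p : K[X]) (n : ℕ) : Matrix (Fin n) (Fin n) K :=
  Matrix.of fun i j => if j.val + 1 = n then -p.coeff i else if i.val = j.val + 1 then 1 else 0

theorem mul_krylov (M : Matrix (Fin n) (Fin n) K) (e : Fin n → K) :
    M * krylov M e = krylov M e * comp M.charpoly n := by
  ext i j
  have hl : (M * krylov M e) i j = ((M ^ (j.val + 1)) *ᵥ e) i := by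
    rw [pow_succ', ← mulVec_mulVec]
    rfl
  rw [hl, Matrix.mul_apply]
  by_cases hj : j.val + 1 = n
  · rw [hj, pow_mulVec_expand, Pi.neg_apply, Finset.sum_apply]
    simp only [krylov, comp, Matrix.of_apply, if_pos hj, mul_neg, Pi.smul_apply, smul_eq_mul,
      Finset.sum_neg_distrib]
    exact congrArg _ (Finset.sum_congr rfl fun x _ => mul_comm _ _)
  · have hlt : j.val + 1 < n := by have := j.isLt; omega
    rw [Finset.sum_eq_single (⟨j.val + 1, hlt⟩ : Fin n)]
    · simp [krylov, comp, hj]
    · intro x _ hx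
      have : x.val ≠ j.val + 1 := fun h => hx (Fin.ext h)
      simp [comp, hj, this]
    · exact fun h => absurd (Finset.mem_univ _) h

/-- Cyclic matrices with the same characteristic polynomial are similar. -/
theorem exists_conj_of_cyc {M N : Matrix (Fin n) (Fin n) K} (hM : IsCyc M) (hN : IsCyc N)
    (h : M.charpoly = N.charpoly) :
    ∃ P : Matrix (Fin n) (Fin n) K, P.det ≠ 0 ∧ P * M = N * P := by
  obtain ⟨e, he⟩ := hM
  obtain ⟨e', he'⟩ := hN
  set A := krylov M e
  set B := krylov N e'
  refine ⟨B * A⁻¹, ?_, ?_⟩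
  · rw [det_mul, det_nonsing_inv, Ring.inverse_eq_inv']
    exact mul_ne_zero he' (inv_ne_zero he)
  · have hA : IsUnit A.det := isUnit_iff_ne_zero.2 he
    have hC : A⁻¹ * M = comp M.charpoly n * A⁻¹ := by
      calc A⁻¹ * M = A⁻¹ * (M * A) * A⁻¹ := by
            rw [← Matrix.mul_assoc, Matrix.mul_assoc _ A A⁻¹, Matrix.mul_nonsing_inv A hA, Matrix.mul_one]
        _ = comp M.charpoly n * A⁻¹ := by
            rw [mul_krylov, ← Matrix.mul_assoc, Matrix.nonsing_inv_mul A hA, Matrix.one_mul]
    rw [Matrix.mul_assoc, hC, h, ← Matrix.mul_assoc, ← mul_krylov, Matrix.mul_assoc]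

theorem isCyc_submatrix {M : Matrix (Fin n) (Fin n) K} (h : IsCyc M) (σ : Fin n ≃ Fin n) :
    IsCyc (M.submatrix σ σ) := by
  obtain ⟨e, he⟩ := h
  have hpow : ∀ k : ℕ, (M.submatrix σ σ) ^ k = (M ^ k).submatrix σ σ := by
    intro k
    induction k with
    | zero => rw [pow_zero, pow_zero, Matrix.submatrix_one_equiv]
    | succ k ih => rw [pow_succ, pow_succ, ih, Matrix.submatrix_mul_equiv]
  refine ⟨e ∘ σ, ?_⟩
  have : krylov (M.submatrix σ σ) (e ∘ σ) = (krylov M e).submatrix σ id := by
    ext i j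
    simp only [krylov, Matrix.of_apply, Matrix.submatrix_apply, id, hpow]
    simp only [Matrix.mulVec, dotProduct, Matrix.submatrix_apply, Function.comp]
    exact Equiv.sum_comp σ (fun x => (M ^ j.val) (σ i) x * e x)
  rw [this]
  intro h0
  apply he
  have hh : (krylov M e).submatrix σ id =
      ((krylov M e).submatrix σ σ) * ((1 : Matrix (Fin n) (Fin n) K).submatrix σ id) := by
    rw [Matrix.submatrix_mul_equiv, Matrix.mul_one]
  rw [hh, det_mul, det_submatrix_equiv_self] at h0
  refine (mul_eq_zero.1 h0).resolve_right fun h1 => ?_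
  rw [Matrix.det_permute, det_one, mul_one] at h1
  rcases Int.units_eq_one_or (Equiv.Perm.sign σ) with h' | h' <;> simp [h'] at h1

/-- A left eigenvector with a prescribed first entry. -/
def IsFirst (M : Matrix (Fin n) (Fin n) K) (i : Fin n) (φ : Fin n → K) : Prop :=
  φ i = 1 ∧ (∀ x, x < i → φ x = 0) ∧ φ ᵥ* M = M i i • φ

open Classical in
/-- An upper triangular matrix with nonzero superdiagonal inside each run of equal diagonal entries,
equal diagonal entries being contiguous, is cyclic. -/
theorem isCyc_upper {M : Matrix (Fin n) (Fin n) K} (hl : ∀ i j : Fin n, j < i → M i j = 0)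
    (hs : ∀ i j : Fin n, j.val = i.val + 1 → M i i = M j j → M i j ≠ 0)
    (hrun : ∀ i j k : Fin n, i < j → j < k → M i i = M k k → M i i = M j j) : IsCyc M := by
  -- the first entry of a left eigenvector sits at the end of a run
  have hend : ∀ i φ, IsFirst M i φ → ∀ j : Fin n, i < j → M i i ≠ M j j := by
    intro i φ ⟨h1, h0, hφ⟩ j hij heq
    have hi1 : i.val + 1 < n := by have := j.isLt; have : i.val < j.val := hij; omega
    set k : Fin n := ⟨i.val + 1, hi1⟩ with hk
    have hik : M i i = M k k := by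
      rcases lt_or_eq_of_le (show k ≤ j from Fin.le_def.2 (by simp [hk]; exact hij)) with h | h
      · exact hrun i k j (Fin.lt_def.2 (by simp [hk])) h heq
      · rw [h]; exact heq
    have hne : i ≠ k := fun h => by have := congrArg Fin.val h; simp [hk] at this
    have := congrFun hφ k
    simp only [Matrix.vecMul, dotProduct, Pi.smul_apply, smul_eq_mul] at this
    rw [Finset.sum_eq_add i k hne, h1, one_mul] at this
    · exact hs i k rfl hik (by rw [← hik] at this; linear_combination this)
    · intro x _ hx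
      rcases lt_or_ge x i with h | h
      · rw [h0 x h, zero_mul]
      · rw [hl x k (by
          have h' : i.val ≤ x.val := h
          have : x.val ≠ i.val := fun e => hx.1 (Fin.ext e)
          have : x.val ≠ k.val := fun e => hx.2 (Fin.ext e)
          show k.val < x.val
          simp [hk] at this ⊢
          omega), mul_zero]
    · exact fun h => absurd (Finset.mem_univ _) h
    · exact fun h => absurd (Finset.mem_univ _) h
  have huniq : ∀ i φ ψ, IsFirst M i φ → IsFirst M i ψ → φ = ψ := by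
    intro i φ ψ hφ hψ
    by_contra hne
    obtain ⟨x, hx⟩ := Function.ne_iff.1 hne
    obtain ⟨j, hj, hjmin⟩ := (Finset.univ.filter fun y => φ y ≠ ψ y).exists_minimal ⟨x, by simp [hx]⟩
    simp only [Finset.mem_filter, Finset.mem_univ, true_and] at hj hjmin
    have hbelow : ∀ y, y < j → φ y = ψ y := fun y hy => by
      by_contra h; exact absurd (hjmin h hy.le) (not_le.2 hy)
    have hij : i < j := by
      rcases lt_trichotomy j i with h | h | h
      · exact absurd ((hφ.2.1 j h).trans (hψ.2.1 j h).symm) hj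
      · subst h; exact absurd (hφ.1.trans hψ.1.symm) hj
      · exact h
    refine hend i φ hφ j hij ?_
    have h : ∑ y, (φ y - ψ y) * M y j = M i i * (φ j - ψ j) := by
      have h1 := congrFun hφ.2.2 j
      have h2 := congrFun hψ.2.2 j
      simp only [Matrix.vecMul, dotProduct, Pi.smul_apply, smul_eq_mul] at h1 h2
      simp only [sub_mul, Finset.sum_sub_distrib, h1, h2, mul_sub]
    rw [Finset.sum_eq_single j] at h
    · exact mul_left_cancel₀ (sub_ne_zero.2 hj) (by linear_combination -h)
    · intro y _ hy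
      rcases lt_or_gt_of_ne hy with h' | h'
      · rw [hbelow y h', sub_self, zero_mul]
      · rw [hl y j h', mul_zero]
    · exact fun h' => absurd (Finset.mem_univ _) h'
  let Φ : Matrix (Fin n) (Fin n) K := Matrix.of fun i =>
    if h : ∃ φ, IsFirst M i φ then h.choose else Pi.single i 1
  have hΦrow : ∀ i φ, IsFirst M i φ → Φ i = φ := by
    intro i φ hφ
    show (if h : ∃ ψ, IsFirst M i ψ then h.choose else Pi.single i 1) = φ
    rw [dif_pos ⟨φ, hφ⟩]
    exact huniq i _ _ (Exists.choose_spec ⟨φ, hφ⟩) hφ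
  have hΦ : ∀ i x : Fin n, x ≤ i → Φ i x = if x = i then 1 else 0 := by
    intro i x hxi
    by_cases h : ∃ φ, IsFirst M i φ
    · obtain ⟨φ, hφ⟩ := h
      rw [hΦrow i φ hφ]
      rcases lt_or_eq_of_le hxi with h' | h'
      · rw [hφ.2.1 x h', if_neg h'.ne]
      · rw [h', hφ.1, if_pos rfl]
    · show (if h : ∃ ψ, IsFirst M i ψ then h.choose else Pi.single i 1) x = _
      rw [dif_neg h, Pi.single_apply]
  have hdet : Φ.det = 1 := by
    rw [Matrix.det_of_upperTriangular (fun i j hij => by
      have hij' : j < i := hij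
      rw [hΦ i j hij'.le, if_neg hij'.ne])]
    exact Finset.prod_eq_one fun i _ => by rw [hΦ i i le_rfl, if_pos rfl]
  set e : Fin n → K := Φ⁻¹ *ᵥ 1 with he
  have hΦe : Φ *ᵥ e = 1 := by
    rw [he, mulVec_mulVec, Matrix.mul_nonsing_inv Φ (by rw [hdet]; exact isUnit_one), one_mulVec]
  refine ⟨e, fun h0 => ?_⟩
  obtain ⟨φ₀, hφ0, hφ⟩ := Matrix.exists_vecMul_eq_zero_iff.2 h0
  -- left kernel of the Krylov matrix
  let F : Submodule K (Fin n → K) := LinearMap.ker (Matrix.vecMulLinear (krylov M e))
  have hF : ∀ φ, φ ∈ F ↔ φ ᵥ* krylov M e = 0 := fun φ => Iff.rfl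
  have hFM : ∀ φ ∈ F, φ ᵥ* M ∈ F := by
    intro φ hφ
    rw [hF] at hφ ⊢
    rw [vecMul_vecMul, mul_krylov, ← vecMul_vecMul, hφ, zero_vecMul]
  let fst : Finset (Fin n) := Finset.univ.filter fun i => ∃ φ ∈ F, φ i ≠ 0 ∧ ∀ x, x < i → φ x = 0
  have hmem : ∀ φ ∈ F, φ ≠ 0 → ∃ j ∈ fst, φ j ≠ 0 ∧ ∀ x, x < j → φ x = 0 := by
    intro φ hφm hne
    obtain ⟨x, hx⟩ := Function.ne_iff.1 hne
    obtain ⟨j, hj, hjmin⟩ := (Finset.univ.filter fun y => φ y ≠ 0).exists_minimal ⟨x, by simpa using hx⟩
    simp only [Finset.mem_filter, Finset.mem_univ, true_and] at hj hjmin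
    have hz : ∀ y, y < j → φ y = 0 := fun y hy => by
      by_contra h; exact absurd (hjmin h hy.le) (not_le.2 hy)
    exact ⟨j, by simp only [fst, Finset.mem_filter, Finset.mem_univ, true_and]; exact ⟨φ, hφm, hj, hz⟩, hj, hz⟩
  obtain ⟨j₀, hj₀, -, -⟩ := hmem φ₀ ((hF _).2 hφ) hφ0
  obtain ⟨i, hi, himax⟩ := fst.exists_maximal ⟨j₀, hj₀⟩
  obtain ⟨φ, hφm, hφi, hφlt⟩ := (Finset.mem_filter.1 hi).2
  -- the last possible first entry gives an eigenvector
  set ψ := (φ i)⁻¹ • φ with hψ
  have hψm : ψ ∈ F := F.smul_mem _ hφm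
  have hfirst : IsFirst M i ψ := by
    refine ⟨by simp [hψ, hφi], fun x hx => by simp [hψ, hφlt x hx], ?_⟩
    by_contra hne
    obtain ⟨j, hj, hjne, -⟩ := hmem _ (F.sub_mem (hFM ψ hψm) (F.smul_mem (M i i) hψm)) (sub_ne_zero.2 hne)
    have hji : j ≤ i := by
      by_contra h
      exact h (himax hj (le_of_not_ge h))
    apply hjne
    simp only [Pi.sub_apply, Pi.smul_apply, smul_eq_mul, Matrix.vecMul, dotProduct]
    rw [Finset.sum_eq_single j]
    · rcases lt_or_eq_of_le hji with h | h
      · simp [hψ, hφlt j h]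
      · subst h; ring
    · intro x _ hx
      rcases lt_or_gt_of_ne hx with h | h
      · simp [hψ, hφlt x (h.trans_le hji)]
      · rw [hl x j h, mul_zero]
    · exact fun h => absurd (Finset.mem_univ _) h
  have h1 : ψ ⬝ᵥ e = 1 := by
    have := congrFun hΦe i
    simpa [Matrix.mulVec, hΦrow i ψ hfirst] using this
  have hn : 0 < n := i.pos
  have h2 := congrFun ((hF ψ).1 hψm) ⟨0, hn⟩
  simp only [Matrix.vecMul, dotProduct, krylov, Matrix.of_apply, pow_zero, one_mulVec, Pi.zero_apply] at h2
  rw [dotProduct, h2] at h1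
  exact zero_ne_one h1

/-- A regular lower triangular matrix is cyclic. -/
theorem isCyc_lower {M : Matrix (Fin n) (Fin n) K} (hl : ∀ i j : Fin n, i < j → M i j = 0)
    (hs : ∀ i j : Fin n, i.val = j.val + 1 → M i i = M j j → M i j ≠ 0)
    (hrun : ∀ i j k : Fin n, i < j → j < k → M i i = M k k → M i i = M j j) : IsCyc M := by
  have h := isCyc_upper (M := M.submatrix Fin.revPerm Fin.revPerm)
    (fun i j hji => hl _ _ (Fin.rev_lt_rev.2 hji))
    (fun i j hij => hs _ _ (by
      simp only [Fin.revPerm_apply, Fin.val_rev]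
      have := j.isLt
      omega))
    (fun i j k hij hjk he => he.trans (hrun _ _ _ (Fin.rev_lt_rev.2 hjk) (Fin.rev_lt_rev.2 hij) he.symm))
  have h2 := isCyc_submatrix h Fin.revPerm
  rwa [Matrix.submatrix_submatrix,
    show (Fin.revPerm : Fin n → Fin n) ∘ (Fin.revPerm : Fin n → Fin n) = id from funext fun i => Fin.rev_rev i,
    Matrix.submatrix_id_id] at h2

end CfsgLib.SLCommutator
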