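import Cfsg.Agent.SLCommutator.Basic

/-!
# The twisted factorisation over the field with three elements in even dimension
-/

set_option autoImplicit false

namespace CfsgLib.SLCommutator

open Matrix Polynomial CfsgLib.SourourProduct

variable {K : Type*} [Field K]

theorem isCyc_two {M : Matrix (Fin 2) (Fin 2) K} (h : ¬ Scalar M) : IsCyc M := by
  by_contra hc
  simp only [IsCyc, not_exists, not_not] at hc
  have e0 := hc ![1, 0]
  have e1 := hc ![0, 1]
  have e2 := hc ![1, 1]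
  simp [krylov, det_fin_two, Matrix.mulVec, dotProduct, Fin.sum_univ_two] at e0 e1 e2
  refine h ⟨M 0 0, ?_⟩
  ext i j
  fin_cases i <;> fin_cases j <;> simp [e0, e1]
  linear_combination e2 - e0 + e1

/-- Sylvester equation. -/
theorem exists_sylvester {ι κ : Type*} [Fintype ι] [DecidableEq ι] [Fintype κ] [DecidableEq κ]
    (A : Matrix ι ι K) (B : Matrix κ κ K) (h : ∀ Z : Matrix κ ι K, Z * A = B * Z → Z = 0)
    (X : Matrix κ ι K) : ∃ Z : Matrix κ ι K, Z * A - B * Z = X := by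
  let T : Matrix κ ι K →ₗ[K] Matrix κ ι K :=
    { toFun := fun Z => Z * A - B * Z
      map_add' := fun Y Z => by rw [Matrix.add_mul, Matrix.mul_add]; abel
      map_smul' := fun a Z => by rw [Matrix.smul_mul, Matrix.mul_smul, smul_sub, RingHom.id_apply] }
  have hinj : Function.Injective T := by
    rw [← LinearMap.ker_eq_bot, LinearMap.ker_eq_bot']
    exact fun Z hZ => h Z (sub_eq_zero.1 hZ)
  obtain ⟨Z, hZ⟩ := (LinearMap.injective_iff_surjective.1 hinj) X
  exact ⟨Z, hZ⟩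

theorem quad_left {ι κ : Type*} [Fintype ι] [DecidableEq ι] [Fintype κ] [DecidableEq κ]
    {A : Matrix ι ι K} {B : Matrix κ κ K} {Z : Matrix κ ι K} (h : Z * A = B * Z) (t : K) :
    Z * (A * A - t • A - 1) = (B * B - t • B - 1) * Z := by
  rw [Matrix.mul_sub, Matrix.mul_sub, Matrix.sub_mul, Matrix.sub_mul, Matrix.mul_one, Matrix.one_mul,
    Matrix.mul_smul, Matrix.smul_mul, ← Matrix.mul_assoc, h, Matrix.mul_assoc B Z A, h, Matrix.mul_assoc]

theorem charpoly_quad {P : Matrix (Fin 2) (Fin 2) K} {t : K} (hd : P.det = -1) (ht : P.trace = t) :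
    P * P - t • P - 1 = 0 := by
  subst ht
  rw [det_fin_two] at hd
  ext i j
  fin_cases i <;> fin_cases j <;> simp [Matrix.mul_apply, Fin.sum_univ_two, trace_fin_two] <;>
    first
      | linear_combination -hd
      | ring

theorem det_sq_add_one_two {P : Matrix (Fin 2) (Fin 2) K} {t : K} (hd : P.det = -1) (ht : P.trace = t)
    (h3 : (3 : K) = 0) (hts : t * t = 1) : (P * P + 1).det = -1 := by
  subst ht
  rw [det_fin_two] at hd
  simp only [trace_fin_two] at hts
  simp only [det_fin_two, Matrix.add_apply, Matrix.mul_apply, Fin.sum_univ_two, Matrix.one_apply_eq,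
    Matrix.one_apply_ne (show (0 : Fin 2) ≠ 1 by decide), Matrix.one_apply_ne (show (1 : Fin 2) ≠ 0 by decide)]
  linear_combination (P 0 0 * P 1 1 - P 0 1 * P 1 0 - 3) * hd + hts + 2 * h3

/-- Block conjugation to the diagonal, lower case. -/
theorem exists_diag_lower {m : ℕ} (P : Matrix (Fin 2) (Fin 2) K) (Q : Matrix (Fin m) (Fin m) K)
    (X : Matrix (Fin m) (Fin 2) K) {t : K} (hP : P * P - t • P - 1 = 0) (hQ : (Q * Q - t • Q - 1).det ≠ 0) :
    ∃ S : Matrix (Fin 2 ⊕ Fin m) (Fin 2 ⊕ Fin m) K, S.det = 1 ∧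
      fromBlocks P 0 X Q * S = S * fromBlocks P 0 0 Q := by
  obtain ⟨Z, hZ⟩ := exists_sylvester P Q (fun Z h => by
    have h1 := quad_left h t
    rw [hP, Matrix.mul_zero] at h1
    have := congrArg ((Q * Q - t • Q - 1)⁻¹ * ·) h1
    simpa only [← Matrix.mul_assoc, Matrix.nonsing_inv_mul _ (isUnit_iff_ne_zero.2 hQ), Matrix.one_mul,
      Matrix.mul_zero] using this.symm) X
  refine ⟨fromBlocks 1 0 Z 1, by rw [det_fromBlocks_zero₁₂, det_one, det_one, one_mul], ?_⟩
  rw [fromBlocks_multiply, fromBlocks_multiply, ← hZ]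
  simp

/-- Block conjugation to the diagonal, upper case. -/
theorem exists_diag_upper {m : ℕ} (P : Matrix (Fin 2) (Fin 2) K) (Q : Matrix (Fin m) (Fin m) K)
    (Y : Matrix (Fin 2) (Fin m) K) {t : K} (hP : P * P - t • P - 1 = 0) (hQ : (Q * Q - t • Q - 1).det ≠ 0) :
    ∃ S : Matrix (Fin 2 ⊕ Fin m) (Fin 2 ⊕ Fin m) K, S.det = 1 ∧
      fromBlocks P Y 0 Q * S = S * fromBlocks P 0 0 Q := by
  obtain ⟨Z, hZ⟩ := exists_sylvester Q P (fun Z h => by
    have h1 := quad_left h t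
    rw [hP, Matrix.zero_mul] at h1
    have := congrArg (· * (Q * Q - t • Q - 1)⁻¹) h1
    simpa only [Matrix.mul_assoc, Matrix.mul_nonsing_inv _ (isUnit_iff_ne_zero.2 hQ), Matrix.mul_one,
      Matrix.zero_mul] using this) Y
  refine ⟨fromBlocks 1 Z 0 1, by rw [det_fromBlocks_zero₂₁, det_one, det_one, one_mul], ?_⟩
  rw [fromBlocks_multiply, fromBlocks_multiply, ← hZ]
  simp

theorem det_quad_tri {n : ℕ} {Q : Matrix (Fin n) (Fin n) K} (hQ : ∀ i j : Fin n, j < i → Q i j = 0)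
    (t s : K) : (Q * Q + t • Q + s • 1).det = ∏ i, (Q i i * Q i i + t * Q i i + s) := by
  have h := aeval_diag hQ (X * X + C t * X + C s)
  simp only [eval_add, eval_mul, eval_X, eval_C] at h
  rw [← h]
  congr 1
  simp [Algebra.algebraMap_eq_smul_one]

theorem det_quad_lower {n : ℕ} {Q : Matrix (Fin n) (Fin n) K} (hQ : ∀ i j : Fin n, i < j → Q i j = 0)
    (t s : K) : (Q * Q + t • Q + s • 1).det = ∏ i, (Q i i * Q i i + t * Q i i + s) := by
  rw [← det_transpose, transpose_add, transpose_add, transpose_mul, transpose_smul, transpose_smul,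
    transpose_one, det_quad_tri (Q := Qᵀ) (fun i j h => hQ j i h)]
  rfl

theorem isComm_twist (h3 : (3 : K) = 0) (hK : ∀ x : K, x ≠ 0 → x = 1 ∨ x = -1)
    (hC : ∀ l u : K, l ≠ 0 → u ≠ 0 → ∃ a b c d : K, a * d - b * c = -1 ∧ l * b = u * c ∧ a + d + l * b ≠ 0)
    {m : ℕ} (hm : Even m) (hm0 : 0 < m) {L U : Matrix (Fin (2 + m)) (Fin (2 + m)) K}
    (hL : IsLower L) (hU : IsUpper U) : IsComm (L * U) := by
  have hm1 : (-1 : K) ≠ 1 := fun h => one_ne_zero (show (1 : K) = 0 by linear_combination h + h3)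
  set e := finSumFinEquiv (m := 2) (n := m)
  have hV := isUpper_inv hU
  set L2 : Matrix (Fin 2) (Fin 2) K := (L.submatrix e e).toBlocks₁₁
  set L3 : Matrix (Fin m) (Fin m) K := (L.submatrix e e).toBlocks₂₂
  set U2 : Matrix (Fin 2) (Fin 2) K := ((U⁻¹).submatrix e e).toBlocks₁₁
  set U3 : Matrix (Fin m) (Fin m) K := ((U⁻¹).submatrix e e).toBlocks₂₂
  have hLz : (L.submatrix e e).toBlocks₁₂ = 0 := by
    ext i j
    exact hL.2.1 _ _ (by show (Fin.castAdd m i).val < (Fin.natAdd 2 j).val; simp; omega)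
  have hUz : ((U⁻¹).submatrix e e).toBlocks₂₁ = 0 := by
    ext i j
    exact hV.2.1 _ _ (by show (Fin.castAdd m j).val < (Fin.natAdd 2 i).val; simp; omega)
  have hL2 : ∃ l, l ≠ 0 ∧ L2 = !![1, 0; l, 1] := by
    refine ⟨L2 1 0, hL.2.2 _ _ rfl, ?_⟩
    ext i j
    fin_cases i <;> fin_cases j
    · exact hL.1 _
    · exact hL.2.1 _ _ (by rw [Fin.lt_def]; simp [e])
    · rfl
    · exact hL.1 _
  have hU2 : ∃ u, u ≠ 0 ∧ U2 = !![1, u; 0, 1] := by
    refine ⟨U2 0 1, hV.2.2 _ _ rfl, ?_⟩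
    ext i j
    fin_cases i <;> fin_cases j
    · exact hV.1 _
    · rfl
    · exact hV.2.1 _ _ (by rw [Fin.lt_def]; simp [e])
    · exact hV.1 _
  have hL3 : IsLower L3 := ⟨fun i => hL.1 _,
    fun i j h => hL.2.1 _ _ (by show (Fin.natAdd 2 j).val < (Fin.natAdd 2 i).val; simp; exact h),
    fun i j h => hL.2.2 _ _ (by show (Fin.natAdd 2 j).val = (Fin.natAdd 2 i).val + 1; simp; omega)⟩
  have hU3 : IsUpper U3 := ⟨fun i => hV.1 _,
    fun i j h => hV.2.1 _ _ (by show (Fin.natAdd 2 j).val < (Fin.natAdd 2 i).val; simp; exact h),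
    fun i j h => hV.2.2 _ _ (by show (Fin.natAdd 2 j).val = (Fin.natAdd 2 i).val + 1; simp; omega)⟩
  obtain ⟨l, hl, hL2'⟩ := hL2
  obtain ⟨u, hu, hU2'⟩ := hU2
  obtain ⟨a, b, c, d, hdet, hlu, htne⟩ := hC l u hl hu
  set t := a + d + l * b with ht
  have hts : t * t = 1 := by rcases hK t htne with h | h <;> rw [h] <;> ring
  set Cm : Matrix (Fin 2) (Fin 2) K := !![a, b; c, d] with hCm
  let δ : Fin m → K := fun i => if i.val = 0 then -1 else 1
  set W : Matrix (Fin 2 ⊕ Fin m) (Fin 2 ⊕ Fin m) K := fromBlocks Cm 0 0 (diagonal δ)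
  set P1 := L2 * Cm with hP1def
  set P2 := U2 * Cm with hP2def
  set Q1 := L3 * diagonal δ with hQ1def
  set Q2 := U3 * diagonal δ with hQ2def
  have hP1d : P1.det = -1 := by
    rw [hP1def, hL2', det_mul, det_fin_two, det_fin_two, hCm]; simp; linear_combination hdet
  have hP2d : P2.det = -1 := by
    rw [hP2def, hU2', det_mul, det_fin_two, det_fin_two, hCm]; simp; linear_combination hdet
  have hP1t : P1.trace = t := by
    rw [hP1def, hL2', hCm, trace_fin_two]; simp [Matrix.mul_apply, Fin.sum_univ_two]; rw [ht]; ring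
  have hP2t : P2.trace = t := by
    rw [hP2def, hU2', hCm, trace_fin_two]; simp [Matrix.mul_apply, Fin.sum_univ_two]; rw [ht]
    linear_combination -hlu
  have hns : ∀ P : Matrix (Fin 2) (Fin 2) K, P.det = -1 → ¬ Scalar P := by
    rintro P hP ⟨s, rfl⟩
    rw [det_smul, det_one, mul_one, Fintype.card_fin] at hP
    have hs : s ≠ 0 := fun h => by rw [h] at hP; simp at hP
    rcases hK s hs with h | h <;> rw [h] at hP
    · exact hm1 (by linear_combination -hP)
    · exact hm1 (by linear_combination -hP)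
  obtain ⟨R, hR, hRP⟩ := exists_conj_of_cyc (isCyc_two (hns _ hP1d)) (isCyc_two (hns _ hP2d))
    (by rw [charpoly_fin_two, charpoly_fin_two, hP1d, hP2d, hP1t, hP2t])
  have hU3u : IsUnit U3.det := by
    rw [det_of_isUpperTriangular (show Matrix.BlockTriangular U3 id from fun i j h => hU3.2.1 i j h),
      Finset.prod_eq_one fun i _ => hU3.1 i]
    exact isUnit_one
  have hδ0 : ∀ i, δ i ≠ 0 := fun i => by simp only [δ]; split_ifs <;> simp
  have hrun : ∀ i j k : Fin m, i < j → j < k → δ i = δ k → δ i = δ j := by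
    intro i j k hij hjk he
    have h1 : i.val < j.val := hij
    have h2 : j.val < k.val := hjk
    simp only [δ] at he ⊢
    rw [if_neg (show ¬ k.val = 0 by omega)] at he
    rw [if_neg (show ¬ j.val = 0 by omega)]
    exact he
  obtain ⟨T, hT, hTQ, -⟩ := exists_similar_pair hL3 (isUpper_inv hU3) δ hδ0 hrun
  rw [Matrix.nonsing_inv_nonsing_inv U3 hU3u] at hTQ
  have hQ1l : ∀ i j : Fin m, i < j → Q1 i j = 0 := fun i j h => by
    rw [hQ1def, Matrix.mul_diagonal, show L3 i j = 0 from hL3.2.1 j i h, zero_mul]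
  have hQ2u : ∀ i j : Fin m, j < i → Q2 i j = 0 := fun i j h => by
    rw [hQ2def, Matrix.mul_diagonal, hU3.2.1 i j h, zero_mul]
  have hQ1d : ∀ i, Q1 i i = δ i := fun i => by
    rw [hQ1def, Matrix.mul_diagonal, show L3 i i = 1 from hL3.1 i, one_mul]
  have hQ2d : ∀ i, Q2 i i = δ i := fun i => by rw [hQ2def, Matrix.mul_diagonal, hU3.1 i, one_mul]
  have hδs : ∀ i, δ i * δ i = 1 := fun i => by simp only [δ]; split_ifs <;> simp
  have hroot : ∀ i, δ i * δ i + -t * δ i + -1 ≠ 0 := fun i h => htne (by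
    have : t * δ i = 0 := by linear_combination hδs i - h
    exact (mul_eq_zero.1 this).resolve_right (hδ0 i))
  have hQ1q : (Q1 * Q1 - t • Q1 - 1).det ≠ 0 := by
    rw [show Q1 * Q1 - t • Q1 - 1 = Q1 * Q1 + (-t) • Q1 + (-1 : K) • 1 by module, det_quad_lower hQ1l]
    exact Finset.prod_ne_zero_iff.2 fun i _ => by rw [hQ1d]; exact hroot i
  have hQ2q : (Q2 * Q2 - t • Q2 - 1).det ≠ 0 := by
    rw [show Q2 * Q2 - t • Q2 - 1 = Q2 * Q2 + (-t) • Q2 + (-1 : K) • 1 by module, det_quad_tri hQ2u]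
    exact Finset.prod_ne_zero_iff.2 fun i _ => by rw [hQ2d]; exact hroot i
  set M1 := L.submatrix e e * W with hM1
  set M2 := (U⁻¹).submatrix e e * W with hM2
  obtain ⟨S1, hS1, hS1M⟩ := exists_diag_lower P1 Q1 ((L.submatrix e e).toBlocks₂₁ * Cm)
    (charpoly_quad hP1d hP1t) hQ1q
  obtain ⟨S2, hS2, hS2M⟩ := exists_diag_upper P2 Q2 (((U⁻¹).submatrix e e).toBlocks₁₂ * diagonal δ)
    (charpoly_quad hP2d hP2t) hQ2q
  have hM1b : M1 = fromBlocks P1 0 ((L.submatrix e e).toBlocks₂₁ * Cm) Q1 := by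
    rw [hM1, ← fromBlocks_toBlocks (L.submatrix e e), hLz, fromBlocks_multiply]
    simp [P1, Q1, L2, L3]
  have hM2b : M2 = fromBlocks P2 (((U⁻¹).submatrix e e).toBlocks₁₂ * diagonal δ) 0 Q2 := by
    rw [hM2, ← fromBlocks_toBlocks ((U⁻¹).submatrix e e), hUz, fromBlocks_multiply]
    simp [P2, Q2, U2, U3]
  rw [← hM1b] at hS1M
  rw [← hM2b] at hS2M
  set G : Matrix (Fin 2 ⊕ Fin m) (Fin 2 ⊕ Fin m) K := fromBlocks R 0 0 T with hG
  have hGd : G * fromBlocks P1 0 0 Q1 = fromBlocks P2 0 0 Q2 * G := by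
    rw [hG, fromBlocks_multiply, fromBlocks_multiply]
    simp [hRP, Q1, Q2, hTQ]
  have hS1u : IsUnit S1.det := by rw [hS1]; exact isUnit_one
  set Φ := S2 * G * S1⁻¹ with hΦ
  have hΦd : Φ.det ≠ 0 := by
    rw [hΦ, det_mul, det_mul, det_nonsing_inv, hS1, hS2, hG, det_fromBlocks_zero₁₂]
    simp [hR, hT]
  have hinv : S1⁻¹ * M1 = fromBlocks P1 0 0 Q1 * S1⁻¹ := by
    calc S1⁻¹ * M1 = S1⁻¹ * (M1 * S1) * S1⁻¹ := by
          rw [Matrix.mul_assoc S1⁻¹ (M1 * S1) S1⁻¹, Matrix.mul_nonsing_inv_cancel_right S1 M1 hS1u]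
      _ = _ := by rw [hS1M, ← Matrix.mul_assoc, Matrix.nonsing_inv_mul S1 hS1u, Matrix.one_mul]
  have hΦM : Φ * M1 = M2 * Φ := by
    rw [hΦ, Matrix.mul_assoc _ S1⁻¹, hinv, ← Matrix.mul_assoc, Matrix.mul_assoc S2 G, hGd, ← Matrix.mul_assoc S2,
      ← hS2M]
    simp only [Matrix.mul_assoc]
  -- back to `Fin (2 + m)`
  have hδp : ∏ i, δ i = -1 := by
    rw [Finset.prod_eq_single (⟨0, hm0⟩ : Fin m)]
    · rfl
    · intro i _ hne
      have : i.val ≠ 0 := fun h => hne (Fin.ext h)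
      simp only [δ]; rw [if_neg this]
    · exact fun h => absurd (Finset.mem_univ _) h
  have hM1d : M1.det = 1 := by
    rw [hM1b, det_fromBlocks_zero₁₂, hP1d, det_of_isLowerTriangular Q1 (fun i j h => hQ1l i j h)]
    simp only [hQ1d, hδp]
    ring
  have hz : (M1 * M1 + 1).det = -1 := by
    rw [hM1b, fromBlocks_multiply, ← fromBlocks_one, fromBlocks_add]
    simp only [Matrix.zero_mul, Matrix.mul_zero, add_zero, zero_add]
    rw [det_fromBlocks_zero₁₂, det_sq_add_one_two hP1d hP1t h3 hts,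
      show Q1 * Q1 + 1 = Q1 * Q1 + (0 : K) • Q1 + (1 : K) • 1 by module, det_quad_lower hQ1l]
    simp only [hQ1d, hδs, zero_mul, add_zero]
    rw [Finset.prod_const, Finset.card_univ, Fintype.card_fin,
      show (1 : K) + 1 = -1 by linear_combination h3, hm.neg_one_pow, mul_one]
  have hback : ∀ A B : Matrix (Fin 2 ⊕ Fin m) (Fin 2 ⊕ Fin m) K,
      A.submatrix e.symm e.symm * B.submatrix e.symm e.symm = (A * B).submatrix e.symm e.symm :=
    fun A B => submatrix_mul_equiv A B _ e.symm _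
  have hMe : ∀ X : Matrix (Fin (2 + m)) (Fin (2 + m)) K,
      (X.submatrix e e * W).submatrix e.symm e.symm = X * W.submatrix e.symm e.symm := fun X => by
    rw [← hback, submatrix_submatrix, Equiv.self_comp_symm, submatrix_id_id]
  refine isComm_of_conj (M := M1.submatrix e.symm e.symm) (N := M2.submatrix e.symm e.symm)
    (P := Φ.submatrix e.symm e.symm) ?_ ?_ ?_ ?_ fun x hx => ?_
  · rw [det_submatrix_equiv_self, hM1d]
  · rw [hM1, hM2, hMe, hMe, Matrix.mul_assoc L, ← Matrix.mul_assoc U, Matrix.mul_nonsing_inv U (by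
      rw [det_of_isUpperTriangular (show Matrix.BlockTriangular U id from fun i j h => hU.2.1 i j h),
        Finset.prod_eq_one fun i _ => hU.1 i]
      exact isUnit_one), Matrix.one_mul]
  · rw [det_submatrix_equiv_self]; exact hΦd
  · rw [hback, hback, hΦM]
  · rcases hK x hx with rfl | rfl
    · exact ⟨1, det_one, by rw [Matrix.one_mul, Matrix.mul_one]⟩
    · refine ⟨(M1 * M1 + 1).submatrix e.symm e.symm, by rw [det_submatrix_equiv_self, hz], ?_⟩
      rw [hback, hback, Matrix.add_mul, Matrix.mul_add, Matrix.mul_assoc, Matrix.one_mul, Matrix.mul_one]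

end CfsgLib.SLCommutator
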