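import Cfsg.Agent.SLCommutator.Cyclic
import Cfsg.Agent.SourourProduct.Main

/-!
# Commutators in `SL_n`: from triangular factorisations to commutators
-/

set_option autoImplicit false

namespace CfsgLib.SLCommutator

open Matrix Polynomial CfsgLib.SourourProduct

variable {K : Type*} [Field K] {n : ℕ}

/-- `g` is a commutator of two matrices of determinant one. -/
def IsComm (g : Matrix (Fin n) (Fin n) K) : Prop :=
  ∃ a b : Matrix.SpecialLinearGroup (Fin n) K, g = (↑(a * b * a⁻¹ * b⁻¹) : Matrix (Fin n) (Fin n) K)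

theorem isComm_of_eq {g a b : Matrix (Fin n) (Fin n) K} (ha : a.det = 1) (hb : b.det = 1)
    (h : g * (b * a) = a * b) : IsComm g := by
  let A : Matrix.SpecialLinearGroup (Fin n) K := ⟨a, ha⟩
  let B : Matrix.SpecialLinearGroup (Fin n) K := ⟨b, hb⟩
  refine ⟨A, B, ?_⟩
  have hg : g.det = 1 := by
    have := congrArg det h
    rwa [det_mul, det_mul, det_mul, ha, hb, mul_one, mul_one] at this
  let G : Matrix.SpecialLinearGroup (Fin n) K := ⟨g, hg⟩
  have : G * (B * A) = A * B := Subtype.ext h
  have hG : G = A * B * A⁻¹ * B⁻¹ := by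
    rw [eq_mul_inv_iff_mul_eq, eq_mul_inv_iff_mul_eq, mul_assoc]; exact this
  exact congrArg Subtype.val hG

theorem isComm_one : IsComm (1 : Matrix (Fin n) (Fin n) K) :=
  isComm_of_eq (a := 1) (b := 1) det_one det_one (by simp)

/-- Being a commutator is invariant under conjugation by invertible matrices. -/
theorem IsComm.conj {g h S : Matrix (Fin n) (Fin n) K} (hc : IsComm g) (hS : S.det ≠ 0)
    (he : S * g = h * S) : IsComm h := by
  obtain ⟨a, b, hab⟩ := hc
  have hu : IsUnit S.det := isUnit_iff_ne_zero.2 hS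
  have hdet : ∀ x : Matrix.SpecialLinearGroup (Fin n) K, (S * x.1 * S⁻¹).det = 1 := fun x => by
    rw [det_mul, det_mul, x.2, mul_one, ← det_mul, Matrix.mul_nonsing_inv S hu, det_one]
  refine isComm_of_eq (hdet a) (hdet b) ?_
  have hS' : ∀ X Y : Matrix (Fin n) (Fin n) K, S * X * S⁻¹ * (S * Y * S⁻¹) = S * (X * Y) * S⁻¹ := fun X Y => by
    simp only [Matrix.mul_assoc, Matrix.nonsing_inv_mul_cancel_left S _ hu]
  have hh : h = S * g * S⁻¹ := by rw [he, Matrix.mul_nonsing_inv_cancel_right S h hu]
  have hg : g * (b.1 * a.1) = a.1 * b.1 := by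
    rw [hab]
    have : a * b * a⁻¹ * b⁻¹ * (b * a) = a * b := by group
    exact congrArg Subtype.val this
  rw [hh, hS', hS', hS', hg]

/-- A quotient of two conjugate matrices is a commutator once the centraliser absorbs the determinant. -/
theorem isComm_of_conj {g M N P : Matrix (Fin n) (Fin n) K} (hM : M.det = 1)
    (hg : g * N = M) (hP : P.det ≠ 0) (hPM : P * M = N * P)
    (hZ : ∀ x : K, x ≠ 0 → ∃ Z : Matrix (Fin n) (Fin n) K, Z.det = x ∧ Z * M = M * Z) : IsComm g := by
  obtain ⟨Z, hZd, hZM⟩ := hZ P.det⁻¹ (inv_ne_zero hP)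
  refine isComm_of_eq (b := P * Z) hM (by rw [det_mul, hZd, mul_inv_cancel₀ hP]) ?_
  rw [Matrix.mul_assoc P, hZM, ← Matrix.mul_assoc P, hPM, Matrix.mul_assoc N, ← Matrix.mul_assoc g, hg]

/-- Diagonal entries of a product of upper triangular matrices. -/
theorem upper_mul_diag {A B : Matrix (Fin n) (Fin n) K} (hA : ∀ i j : Fin n, j < i → A i j = 0)
    (hB : ∀ i j : Fin n, j < i → B i j = 0) (i : Fin n) : (A * B) i i = A i i * B i i := by
  rw [Matrix.mul_apply, Finset.sum_eq_single i]
  · intro x _ hx
    rcases lt_or_gt_of_ne hx with h | h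
    · rw [hA i x h, zero_mul]
    · rw [hB x i h, mul_zero]
  · exact fun h => absurd (Finset.mem_univ _) h

/-- The inverse of a regular upper unitriangular matrix. -/
theorem isUpper_inv {U : Matrix (Fin n) (Fin n) K} (hU : IsUpper U) : IsUpper U⁻¹ := by
  obtain ⟨hd, hl, hs⟩ := hU
  have htri : Matrix.BlockTriangular U id := fun i j h => hl i j h
  have hdet : U.det = 1 := by
    rw [det_of_isUpperTriangular htri]; exact Finset.prod_eq_one fun i _ => hd i
  have hu : IsUnit U.det := by rw [hdet]; exact isUnit_one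
  haveI : Invertible U := Matrix.invertibleOfIsUnitDet U hu
  have hinv : ∀ i j : Fin n, j < i → U⁻¹ i j = 0 := fun i j h =>
    blockTriangular_inv_of_blockTriangular htri h
  have h1 : U * U⁻¹ = 1 := Matrix.mul_nonsing_inv U hu
  have hdiag : ∀ i, U⁻¹ i i = 1 := fun i => by
    have := congrFun (congrFun h1 i) i
    rwa [upper_mul_diag hl hinv, hd, one_mul, Matrix.one_apply_eq] at this
  refine ⟨hdiag, hinv, fun i j hij h0 => hs i j hij ?_⟩
  have hne : i ≠ j := fun e => by rw [e] at hij; omega
  have := congrFun (congrFun h1 i) j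
  rw [Matrix.mul_apply, Finset.sum_eq_add i j hne, hd, one_mul, h0, zero_add, hdiag, mul_one,
    Matrix.one_apply_ne hne] at this
  · exact this
  · intro x _ hx
    rcases lt_or_ge x i with h | h
    · rw [hl i x h, zero_mul]
    · rw [hinv x j (by
        have h' : i.val ≤ x.val := h
        have : x.val ≠ i.val := fun e => hx.1 (Fin.ext e)
        have : x.val ≠ j.val := fun e => hx.2 (Fin.ext e)
        show j.val < x.val
        omega), mul_zero]
  · exact fun h => absurd (Finset.mem_univ _) h
  · exact fun h => absurd (Finset.mem_univ _) h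

/-- From a regular factorisation and a diagonal with contiguous runs, two similar matrices. -/
theorem exists_similar_pair {L U : Matrix (Fin n) (Fin n) K} (hL : IsLower L) (hU : IsUpper U)
    (d : Fin n → K) (hd : ∀ i, d i ≠ 0) (hrun : ∀ i j k : Fin n, i < j → j < k → d i = d k → d i = d j) :
    ∃ P : Matrix (Fin n) (Fin n) K, P.det ≠ 0 ∧
      P * (L * diagonal d) = (U⁻¹ * diagonal d) * P ∧ (L * U) * (U⁻¹ * diagonal d) = L * diagonal d := by
  obtain ⟨hLd, hLl, hLs⟩ := hL
  have hUu : IsUnit U.det := by
    rw [det_of_isUpperTriangular (show Matrix.BlockTriangular U id from fun i j h => hU.2.1 i j h),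
      Finset.prod_eq_one fun i _ => hU.1 i]
    exact isUnit_one
  obtain ⟨hVd, hVl, hVs⟩ := isUpper_inv hU
  have hMd : ∀ i, (L * diagonal d) i i = d i := fun i => by
    rw [Matrix.mul_diagonal, show L i i = 1 from hLd i, one_mul]
  have hNd : ∀ i, (U⁻¹ * diagonal d) i i = d i := fun i => by rw [Matrix.mul_diagonal, hVd, one_mul]
  have hM : IsCyc (L * diagonal d) :=
    isCyc_lower (fun i j h => by rw [Matrix.mul_diagonal, show L i j = 0 from hLl j i h, zero_mul])
      (fun i j h _ => by
        rw [Matrix.mul_diagonal]; exact mul_ne_zero (hLs j i h) (hd j))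
      (fun i j k h1 h2 he => by rw [hMd, hMd] at he ⊢; exact hrun i j k h1 h2 he)
  have hN : IsCyc (U⁻¹ * diagonal d) :=
    isCyc_upper (fun i j h => by rw [Matrix.mul_diagonal, hVl i j h, zero_mul])
      (fun i j h _ => by rw [Matrix.mul_diagonal]; exact mul_ne_zero (hVs i j h) (hd j))
      (fun i j k h1 h2 he => by rw [hNd, hNd] at he ⊢; exact hrun i j k h1 h2 he)
  obtain ⟨P, hP, hPM⟩ := exists_conj_of_cyc hM hN (by
    rw [← Matrix.charpoly_transpose (L * diagonal d)]
    rw [Matrix.charpoly_of_isUpperTriangular _ (fun i j h => by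
        rw [Matrix.transpose_apply, Matrix.mul_diagonal, show L j i = 0 from hLl i j h, zero_mul]),
      Matrix.charpoly_of_isUpperTriangular _ (fun i j h => by rw [Matrix.mul_diagonal, hVl i j h, zero_mul])]
    simp only [Matrix.transpose_apply, hMd, hNd])
  refine ⟨P, hP, hPM, ?_⟩
  rw [Matrix.mul_assoc L, ← Matrix.mul_assoc U, Matrix.mul_nonsing_inv U hUu, Matrix.one_mul]

/-- A polynomial in a triangular matrix. -/
theorem aeval_diag {M : Matrix (Fin n) (Fin n) K} (hl : ∀ i j : Fin n, j < i → M i j = 0) (p : K[X]) :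
    (aeval M p).det = ∏ i, p.eval (M i i) := by
  have key : ∀ p : K[X], (∀ i j : Fin n, j < i → aeval M p i j = 0) ∧ ∀ i, aeval M p i i = p.eval (M i i) := by
    intro p
    induction p using Polynomial.induction_on' with
    | add p q hp hq =>
      exact ⟨fun i j h => by rw [map_add, Matrix.add_apply, hp.1 i j h, hq.1 i j h, add_zero],
        fun i => by rw [map_add, Matrix.add_apply, hp.2, hq.2, eval_add]⟩
    | monomial k a =>
      have hpow : ∀ k : ℕ, (∀ i j : Fin n, j < i → (M ^ k) i j = 0) ∧ ∀ i, (M ^ k) i i = M i i ^ k := by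
        intro k
        induction k with
        | zero => exact ⟨fun i j h => by simp [h.ne'], fun i => by simp⟩
        | succ k ih =>
          refine ⟨fun i j h => ?_, fun i => by rw [pow_succ, upper_mul_diag ih.1 hl, ih.2, pow_succ]⟩
          rw [pow_succ]
          exact (Matrix.BlockTriangular.mul (fun i j h => ih.1 i j h) (fun i j h => hl i j h) :
            Matrix.BlockTriangular (M ^ k * M) id) h
      refine ⟨fun i j h => ?_, fun i => ?_⟩
      · rw [aeval_monomial, Algebra.algebraMap_eq_smul_one, smul_mul_assoc, one_mul, Matrix.smul_apply,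
          (hpow k).1 i j h, smul_zero]
      · rw [aeval_monomial, Algebra.algebraMap_eq_smul_one, smul_mul_assoc, one_mul, Matrix.smul_apply,
          (hpow k).2, eval_monomial, smul_eq_mul]
  rw [det_of_isUpperTriangular (show Matrix.BlockTriangular (aeval M p) id from fun i j h => (key p).1 i j h)]
  exact Finset.prod_congr rfl fun i _ => (key p).2 i

theorem transpose_aeval (M : Matrix (Fin n) (Fin n) K) (p : K[X]) : (aeval M p)ᵀ = aeval Mᵀ p := by
  induction p using Polynomial.induction_on' with
  | add p q hp hq => rw [map_add, map_add, transpose_add, hp, hq]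
  | monomial k a =>
    simp only [aeval_monomial, Algebra.algebraMap_eq_smul_one, smul_mul_assoc, one_mul, transpose_smul,
      transpose_pow]

/-- A regular factorisation gives a commutator. -/
theorem isComm_of_factor {L U : Matrix (Fin n) (Fin n) K} (hL : IsLower L) (hU : IsUpper U)
    (d : Fin n → K) (hd : ∀ i, d i ≠ 0) (hrun : ∀ i j k : Fin n, i < j → j < k → d i = d k → d i = d j)
    (hprod : ∏ i, d i = 1) (hsurj : ∀ x : K, x ≠ 0 → ∃ p : K[X], ∏ i, p.eval (d i) = x) :
    IsComm (L * U) := by
  obtain ⟨P, hP, hPM, hg⟩ := exists_similar_pair hL hU d hd hrun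
  have hupper : ∀ i j : Fin n, j < i → (L * diagonal d)ᵀ i j = 0 := fun i j h => by
    rw [transpose_apply, Matrix.mul_diagonal, show L j i = 0 from hL.2.1 i j h, zero_mul]
  have hdiag : ∀ i, (L * diagonal d)ᵀ i i = d i := fun i => by
    rw [transpose_apply, Matrix.mul_diagonal, show L i i = 1 from hL.1 i, one_mul]
  refine isComm_of_conj ?_ hg hP hPM fun x hx => ?_
  · rw [← det_transpose, det_of_isUpperTriangular (show Matrix.BlockTriangular _ id from fun i j h => hupper i j h)]
    simp only [hdiag, hprod]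
  · obtain ⟨p, hp⟩ := hsurj x hx
    refine ⟨aeval (L * diagonal d) p, ?_, ?_⟩
    · rw [← det_transpose, transpose_aeval, aeval_diag hupper, ← hp]
      simp only [hdiag]
    · simpa using congrArg (aeval (L * diagonal d)) (mul_comm p X)

/-- Transvections are commutators in dimension at least three. -/
theorem isComm_transvection {m : ℕ} {g : Matrix (Fin (m + 3)) (Fin (m + 3)) K} (hg : g.det = 1)
    (hsm : SourourProduct.Small (g - 1)) : IsComm g := by
  obtain ⟨w, φ, hwφ⟩ := hsm
  rcases eq_or_ne w 0 with rfl | hw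
  · rw [zero_vecMulVec, sub_eq_zero] at hwφ; rw [hwφ]; exact isComm_one
  rcases eq_or_ne φ 0 with rfl | hφ
  · rw [vecMulVec_zero, sub_eq_zero] at hwφ; rw [hwφ]; exact isComm_one
  have horth : φ ⬝ᵥ w = 0 := by
    have hg' : g = 1 + replicateCol Unit w * replicateRow Unit φ := by rw [← vecMulVec_eq, ← hwφ]; abel
    rw [hg', det_one_add_replicateCol_mul_replicateRow] at hg
    linear_combination hg
  obtain ⟨X, hX, hX0, hXl⟩ := exists_transvection_frame (n := m + 1) hw hφ horth
  have h0 : (0 : Fin (m + 3)) ≠ 1 := by simp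
  have h1 : (1 : Fin (m + 3)) ≠ Fin.last (m + 2) := fun h => by
    have := congrArg Fin.val h; simp at this
  have h2 : (0 : Fin (m + 3)) ≠ Fin.last (m + 2) := fun h => by
    have := congrArg Fin.val h; simp at this
  refine IsComm.conj (g := 1 + single 0 (Fin.last (m + 2)) 1) (S := X) ?_ hX ?_
  · refine isComm_of_eq (a := transvection 0 1 1) (b := transvection 1 (Fin.last (m + 2)) 1)
      (det_transvection_of_ne _ _ h0 _) (det_transvection_of_ne _ _ h1 _) ?_
    simp only [transvection, Matrix.mul_add, Matrix.add_mul, Matrix.one_mul, Matrix.mul_one,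
      single_mul_single_same, single_mul_single_of_ne _ _ _ _ h2.symm, single_mul_single_of_ne _ _ _ _ h0.symm,
      single_mul_single_of_ne _ _ _ _ h1.symm, add_zero, mul_one]
    abel
  · rw [show g = 1 + vecMulVec w φ by rw [← hwφ]; abel, Matrix.mul_add, Matrix.mul_one, Matrix.add_mul,
      Matrix.one_mul, vecMulVec_mul, hXl, ← hX0, ← mul_vecMulVec]
    congr 2
    ext i j
    simp [vecMulVec_apply, single, Pi.single_apply, eq_comm, ite_and]
    split_ifs <;> simp_all

end CfsgLib.SLCommutator
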