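import Cfsg.Agent.SLCommutator.Basic

/-!
# Fields with at least four elements
-/

set_option autoImplicit false

namespace CfsgLib.SLCommutator

open Matrix Polynomial CfsgLib.SourourProduct

variable {K : Type*} [Field K]

theorem isComm_transvection_two {t : K} (ht0 : t ≠ 0) (ht : t * t ≠ 1)
    {g : Matrix (Fin 2) (Fin 2) K} (hg : g.det = 1) (hsm : SourourProduct.Small (g - 1)) : IsComm g := by
  obtain ⟨w, φ, hwφ⟩ := hsm
  rcases eq_or_ne w 0 with rfl | hw
  · rw [zero_vecMulVec, sub_eq_zero] at hwφ; rw [hwφ]; exact isComm_one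
  rcases eq_or_ne φ 0 with rfl | hφ
  · rw [vecMulVec_zero, sub_eq_zero] at hwφ; rw [hwφ]; exact isComm_one
  have horth : φ ⬝ᵥ w = 0 := by
    have hg' : g = 1 + replicateCol Unit w * replicateRow Unit φ := by rw [← vecMulVec_eq, ← hwφ]; abel
    rw [hg', det_one_add_replicateCol_mul_replicateRow] at hg
    linear_combination hg
  obtain ⟨X, hX, hX0, hXl⟩ := exists_transvection_frame (n := 0) hw hφ horth
  refine IsComm.conj (g := !![1, 1; 0, 1]) (S := X) ?_ hX ?_
  · have hne : t * t - 1 ≠ 0 := sub_ne_zero.2 ht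
    refine isComm_of_eq (a := !![t, 0; 0, t⁻¹]) (b := !![1, (t * t - 1)⁻¹; 0, 1])
      (by simp [det_fin_two, ht0]) (by simp [det_fin_two]) ?_
    ext i j
    fin_cases i <;> fin_cases j <;> simp [Matrix.mul_apply, Fin.sum_univ_two]
    all_goals
      generalize hu : (t * t - 1)⁻¹ = u
      have hu' : (t * t - 1) * u = 1 := by rw [← hu]; exact mul_inv_cancel₀ hne
      field_simp
      linear_combination -hu'
  · rw [show g = 1 + vecMulVec w φ by rw [← hwφ]; abel, Matrix.add_mul, Matrix.one_mul,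
      vecMulVec_mul, hXl, ← hX0, ← mul_vecMulVec]
    have : (!![1, 1; 0, 1] : Matrix (Fin 2) (Fin 2) K) =
        1 + vecMulVec (Pi.single 0 1) (Pi.single (Fin.last 1) 1) := by
      ext i j
      fin_cases i <;> fin_cases j <;> simp [vecMulVec_apply]
    rw [this, Matrix.mul_add, Matrix.mul_one]

theorem isComm_large (hK : 4 ≤ Cardinal.mk K) {n : ℕ} (hn : 2 ≤ n) (g : Matrix (Fin n) (Fin n) K)
    (hg : g.det = 1) (hns : ¬ Scalar g) : IsComm g := by
  classical
  obtain ⟨t, ht0, ht1, ht2⟩ := exists_three_avoid hK (0 : K) 1 (-1)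
  have htt : t * t ≠ 1 := fun h => by
    rcases mul_eq_zero.1 (show (t - 1) * (t + 1) = 0 by linear_combination h) with h' | h'
    · exact ht1 (sub_eq_zero.1 h')
    · exact ht2 (eq_neg_of_add_eq_zero_left h')
  by_cases hsm : SourourProduct.Small (g - 1)
  · obtain rfl | hn3 := hn.eq_or_lt
    · exact isComm_transvection_two ht0 htt hg hsm
    · obtain ⟨m, rfl⟩ : ∃ m, n = m + 3 := ⟨n - 3, by omega⟩
      exact isComm_transvection hg hsm
  obtain ⟨k, rfl⟩ : ∃ k, n = k + 2 := ⟨n - 2, by omega⟩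
  have h1 : (Pi.single 0 1 : Fin (k + 2) → K) ≠ 0 := fun e => by simpa using congrFun e 0
  obtain ⟨S, S', L, U, hS, hS', h, hL, hU, -, -⟩ :=
    exists_regular_factorisation hK (k + 1) g _ _ hg (fun _ => ⟨hns, hsm⟩) h1 h1
  refine IsComm.conj (g := L * U) (S := S') ?_ (fun e => by
    simpa [e] using congrArg det hS) (by
    rw [← h, ← Matrix.mul_assoc, ← Matrix.mul_assoc, hS', Matrix.one_mul])
  have hti : t ≠ t⁻¹ := fun e => htt (by conv_lhs => arg 1; rw [e]
                                         rw [inv_mul_cancel₀ ht0])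
  have hi1 : t⁻¹ ≠ 1 := fun e => ht1 (inv_eq_one.1 e)
  let d : Fin (k + 2) → K := fun i => if i.val = 0 then t else if i.val = 1 then t⁻¹ else 1
  have hprod : ∀ f : K → K, ∏ i, f (d i) = f t * (f t⁻¹ * f 1 ^ k) := by
    intro f
    rw [Fin.prod_univ_succ, Fin.prod_univ_succ]
    simp [d]
  refine isComm_of_factor hL hU d (fun i => ?_) (fun i j l hij hjl he => ?_) ?_ (fun x hx => ?_)
  · simp only [d]; split_ifs <;> simp [ht0]
  · have h1 : i.val < j.val := hij
    have h2 : j.val < l.val := hjl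
    simp only [d] at he ⊢
    rcases Nat.lt_or_ge i.val 2 with h3 | h3
    · exfalso
      rw [if_neg (show ¬ l.val = 0 by omega), if_neg (show ¬ l.val = 1 by omega)] at he
      split_ifs at he with ha hb
      · exact ht1 he
      · exact hi1 he
      · omega
    · simp [show ¬ i.val = 0 by omega, show ¬ i.val = 1 by omega, show ¬ j.val = 0 by omega,
        show ¬ j.val = 1 by omega]
  · rw [hprod (fun y => y)]; simp [ht0]
  · refine ⟨1 + C ((x - 1) / ((t - t⁻¹) * (t - 1))) * ((X - C t⁻¹) * (X - C 1)), ?_⟩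
    rw [hprod (fun y => eval y _)]
    have : (t - t⁻¹) * (t - 1) ≠ 0 := mul_ne_zero (sub_ne_zero.2 hti) (sub_ne_zero.2 ht1)
    simp only [eval_add, eval_one, eval_mul, eval_C, eval_sub, eval_X, sub_self, mul_zero, zero_mul, add_zero,
      one_pow, mul_one, div_mul_cancel₀ _ this]
    ring

end CfsgLib.SLCommutator
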