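import Cfsg.Agent.SLCommutator.Basic

/-!
# Scalar matrices of determinant one are commutators
-/

set_option autoImplicit false

namespace CfsgLib.SLCommutator

open Matrix Kronecker

variable {K : Type*} [Field K]

/-- The scalar `w` is a commutator in `SL` over the index type `ι`. -/
def ScalarComm (w : K) (ι : Type*) [Fintype ι] [DecidableEq ι] : Prop :=
  ∃ a b : Matrix ι ι K, a.det = 1 ∧ b.det = 1 ∧ w • (b * a) = a * b

theorem ScalarComm.reindex {w : K} {ι κ : Type*} [Fintype ι] [DecidableEq ι] [Fintype κ] [DecidableEq κ]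
    (e : ι ≃ κ) (h : ScalarComm w ι) : ScalarComm w κ := by
  obtain ⟨a, b, ha, hb, hab⟩ := h
  refine ⟨a.submatrix e.symm e.symm, b.submatrix e.symm e.symm, ?_, ?_, ?_⟩
  · rwa [det_submatrix_equiv_self]
  · rwa [det_submatrix_equiv_self]
  · rw [submatrix_mul_equiv, submatrix_mul_equiv, ← hab]; rfl

theorem ScalarComm.prod {w : K} {ι : Type*} [Fintype ι] [DecidableEq ι] (t : ℕ) (h : ScalarComm w ι) :
    ScalarComm w (Fin t × ι) := by
  obtain ⟨a, b, ha, hb, hab⟩ := h
  refine ⟨(1 : Matrix (Fin t) (Fin t) K) ⊗ₖ a, (1 : Matrix (Fin t) (Fin t) K) ⊗ₖ b, ?_, ?_, ?_⟩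
  · rw [det_kronecker, det_one, ha, one_pow, one_pow, one_mul]
  · rw [det_kronecker, det_one, hb, one_pow, one_pow, one_mul]
  · rw [← mul_kronecker_mul, ← mul_kronecker_mul, ← kronecker_smul, hab]

theorem pow_sum_val {w : K} (m : ℕ) : (∏ i : Fin m, w ^ i.val) ^ 2 = w ^ (m * (m - 1)) := by
  rw [Finset.prod_pow_eq_pow_sum, ← pow_mul, ← Finset.sum_range (fun i => i), Finset.sum_range_id_mul_two]

theorem scalarComm_odd {w : K} {m : ℕ} (hm : Odd m) (hw : w ^ m = 1) : ScalarComm w (Fin m) := by
  obtain ⟨k, rfl⟩ := hm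
  refine ⟨(finRotate (2 * k + 1)).permMatrix K, diagonal fun i => w ^ i.val, ?_, ?_, ?_⟩
  · rw [det_permutation, sign_finRotate]; simp
  · rw [det_diagonal]
    have h2 : ∏ i : Fin (2 * k + 1), w ^ i.val = w ^ ((2 * k + 1) * k) := by
      rw [Finset.prod_pow_eq_pow_sum, ← Finset.sum_range (fun i => i), Finset.sum_range_id]
      congr 1
      rw [show 2 * k + 1 - 1 = 2 * k by omega, show (2 * k + 1) * (2 * k) = 2 * ((2 * k + 1) * k) by ring]
      omega
    rw [h2, pow_mul, hw, one_pow]
  · ext i j
    simp only [Matrix.smul_apply, Matrix.diagonal_mul, Matrix.mul_diagonal, smul_eq_mul,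
      Equiv.Perm.permMatrix, PEquiv.toMatrix_apply, Equiv.toPEquiv_apply, Option.mem_def, Option.some.injEq]
    split_ifs with h
    · subst h
      rw [mul_one, one_mul, finRotate_succ_apply, Fin.val_add_one]
      split_ifs with h'
      · subst h'; rw [pow_zero, Fin.val_last, ← pow_succ', hw]
      · rw [← pow_succ']
    · simp

open Classical in
theorem scalarComm_even [Fintype K] {w : K} {h : ℕ} (hh : 0 < h) (hw : w ^ h = -1) (h2 : (2 : K) ≠ 0) :
    ScalarComm w (Fin 2 × Fin h) := by
  obtain ⟨k, rfl⟩ : ∃ k, h = k + 1 := ⟨h - 1, by omega⟩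
  have hw0 : w ≠ 0 := by rintro rfl; rw [zero_pow (by omega)] at hw; simp at hw
  obtain ⟨α, β, hαβ⟩ : ∃ α β : K, w * (β * β) - α * α = 1 := by
    obtain ⟨x, y, hxy⟩ := FiniteField.exists_root_sum_quadratic
      (f := Polynomial.C w * Polynomial.X ^ 2) (g := -Polynomial.X ^ 2 - 1)
      (by rw [Polynomial.degree_C_mul_X_pow 2 hw0]; rfl)
      (by
        rw [show (-Polynomial.X ^ 2 - 1 : Polynomial K) = -(Polynomial.X ^ 2 + Polynomial.C 1) by simp; ring,
          Polynomial.degree_neg, Polynomial.degree_X_pow_add_C (by norm_num)]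
        rfl)
      (by
        exact FiniteField.odd_card_of_char_ne_two (fun hc => h2 (by
          have := ringChar.Nat.cast_ringChar (R := K)
          rw [hc] at this
          exact_mod_cast this)))
    simp at hxy
    exact ⟨y, x, by linear_combination hxy⟩
  set C : Matrix (Fin 2) (Fin 2) K := !![0, 1; w, 0] with hC
  set X : Matrix (Fin 2) (Fin 2) K := !![α, β; -(β * w), -α] with hX
  let B : Fin (k + 1) → Matrix (Fin 2) (Fin 2) K := fun i => w ^ i.val • C
  let D : Fin (k + 1) → Matrix (Fin 2) (Fin 2) K := fun i => if i = Fin.last k then X else 1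
  let P : Matrix (Fin 2 × Fin (k + 1)) (Fin 2 × Fin (k + 1)) K :=
    (1 : Matrix (Fin 2) (Fin 2) K) ⊗ₖ (finRotate (k + 1)).permMatrix K
  refine ⟨blockDiagonal D * P, blockDiagonal B, ?_, ?_, ?_⟩
  · rw [det_mul, det_blockDiagonal, det_kronecker, det_one, one_pow, one_mul, det_permutation, sign_finRotate]
    simp only [D, apply_ite Matrix.det, det_one, Finset.prod_ite_eq', Finset.mem_univ, if_true]
    have : X.det = 1 := by rw [hX, det_fin_two]; simp; linear_combination hαβ
    rw [this]
    simp [← pow_mul]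
  · rw [det_blockDiagonal]
    simp only [B, det_smul, Fintype.card_fin]
    rw [Finset.prod_mul_distrib, Finset.prod_pow, pow_sum_val, Finset.prod_const, Finset.card_univ,
      Fintype.card_fin, hC, det_fin_two]
    simp only [Matrix.of_apply, Matrix.cons_val', Matrix.cons_val_zero, Matrix.cons_val_one, mul_zero, one_mul,
      zero_sub, Matrix.empty_val', Matrix.cons_val_fin_one]
    rw [pow_mul, hw, add_tsub_cancel_right, neg_pow w, hw, pow_succ]
    have : ((-1 : K) ^ k) * ((-1) ^ k) = 1 := by rw [← mul_pow]; simp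
    linear_combination this
  · have hBD : ∀ i, w • (B i * D i) = D i * B (finRotate (k + 1) i) := by
      intro i
      simp only [B, D]
      rw [coe_finRotate]
      split_ifs with h'
      · subst h'
        rw [pow_zero, one_smul, smul_mul_assoc, smul_smul, Fin.val_last, ← pow_succ', hw]
        ext a b
        fin_cases a <;> fin_cases b <;> simp [hC, hX, Matrix.mul_apply, Fin.sum_univ_two] <;> ring
      · rw [Matrix.mul_one, Matrix.one_mul, smul_smul, ← pow_succ']
    have hPB : P * blockDiagonal B = blockDiagonal (fun i => B (finRotate (k + 1) i)) * P := by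
      ext ⟨a, i⟩ ⟨b, j⟩
      have hP : ∀ (a c : Fin 2) (i l : Fin (k + 1)), P (a, i) (c, l) = if a = c ∧ finRotate (k + 1) i = l then 1 else 0 := by
        intro a c i l
        simp only [P, kroneckerMap_apply, Equiv.Perm.permMatrix, PEquiv.toMatrix_apply, Equiv.toPEquiv_apply,
          Option.mem_def, Option.some.injEq, Matrix.one_apply]
        by_cases h1 : a = c <;> by_cases h2 : finRotate (k + 1) i = l <;> simp [h1, h2]
      rw [Matrix.mul_apply, Matrix.mul_apply, Finset.sum_eq_single (a, finRotate (k + 1) i),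
        Finset.sum_eq_single (b, i)]
      · by_cases h : finRotate (k + 1) i = j
        · simp [hP, blockDiagonal_apply, ← h]
        · simp [hP, blockDiagonal_apply, h]
      · rintro ⟨c, l⟩ _ hne
        rw [hP, blockDiagonal_apply]
        split_ifs with h1 h2 <;> simp_all
      · exact fun h => absurd (Finset.mem_univ _) h
      · rintro ⟨c, l⟩ _ hne
        rw [hP, if_neg (fun e => hne (by rw [e.1, e.2])), zero_mul]
      · exact fun h => absurd (Finset.mem_univ _) h
    rw [← Matrix.mul_assoc, ← blockDiagonal_mul, Matrix.mul_assoc _ P, hPB, ← Matrix.mul_assoc,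
      ← blockDiagonal_mul, ← smul_mul_assoc]
    congr 1
    rw [← blockDiagonal_smul]
    congr 1
    funext i
    exact hBD i

theorem isComm_scalar [Fintype K] {n : ℕ} (g : Matrix (Fin n) (Fin n) K) (hg : g.det = 1)
    (hs : SourourProduct.Scalar g) : IsComm g := by
  obtain ⟨w, rfl⟩ := hs
  rw [det_smul, det_one, mul_one, Fintype.card_fin] at hg
  rcases Nat.eq_zero_or_pos n with rfl | hn
  · exact isComm_of_eq (a := 1) (b := 1) det_one det_one (Matrix.ext fun i => i.elim0)
  suffices h : ScalarComm w (Fin n) by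
    obtain ⟨a, b, ha, hb, hab⟩ := h
    exact isComm_of_eq ha hb (by rw [smul_mul_assoc, one_mul, hab])
  have hm : 0 < orderOf w := orderOf_pos_iff.2 (isOfFinOrder_iff_pow_eq_one.2 ⟨n, hn, hg⟩)
  obtain ⟨t, rfl⟩ := orderOf_dvd_of_pow_eq_one hg
  rcases Nat.even_or_odd (orderOf w) with he | ho
  · obtain ⟨h, hh⟩ := he
    have hwh : w ^ h = -1 := by
      have h1 : w ^ h * w ^ h = 1 := by rw [← pow_add, ← hh, pow_orderOf_eq_one]
      exact (mul_self_eq_one_iff.1 h1).resolve_left
        (fun e => absurd (orderOf_dvd_of_pow_eq_one e) (Nat.not_dvd_of_pos_of_lt (by omega) (by omega)))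
    have h2 : (2 : K) ≠ 0 := fun h2 => by
      have h1 : w ^ h = 1 := by rw [hwh]; linear_combination -h2
      exact absurd (orderOf_dvd_of_pow_eq_one h1) (Nat.not_dvd_of_pos_of_lt (by omega) (by omega))
    exact ((scalarComm_even (by omega) hwh h2).prod t).reindex
      (Fintype.equivFinOfCardEq (by simp [hh]; ring))
  · exact ((scalarComm_odd ho (pow_orderOf_eq_one w)).prod t).reindex
      (Fintype.equivFinOfCardEq (by simp; ring))

end CfsgLib.SLCommutator
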