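import Cfsg.Agent.SourourProduct.Main

/-!
# Regular factorisation from a selection hypothesis
-/

set_option autoImplicit false

namespace CfsgLib.SLCommutator

open Matrix CfsgLib.SourourProduct

variable {K : Type*} [Field K]

/-- The data of one elimination step, with the conditions keeping the compressed matrix good. -/
def Pair {n : ℕ} (A : Matrix (Fin n) (Fin n) K) (c r : Fin n → K) : Prop :=
  ∃ v f : Fin n → K, f ⬝ᵥ v = 1 ∧ f ⬝ᵥ (A *ᵥ v) = 1 ∧ f ⬝ᵥ c ≠ 0 ∧ r ⬝ᵥ v ≠ 0 ∧ A *ᵥ v ≠ v ∧ f ᵥ* A ≠ f ∧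
    (3 ≤ n → (∀ w : Fin n → K, ∃ x, f ⬝ᵥ x = 0 ∧ ∀ a b : K, A *ᵥ x - x ≠ a • (A *ᵥ v) + b • w) ∧
      ∀ l : K, l ^ (n - 1) = 1 → l ≠ 1 → ∃ x, f ⬝ᵥ x = 0 ∧ ∀ a : K, A *ᵥ x - l • x ≠ a • (A *ᵥ v))

/-- Every good matrix has a step. -/
def HasSelection (K : Type*) [Field K] : Prop :=
  ∀ (k : ℕ) (A : Matrix (Fin (k + 2)) (Fin (k + 2)) K) (c r : Fin (k + 2) → K), A.det = 1 → ¬ Scalar A →
    ¬ SourourProduct.Small (A - 1) → c ≠ 0 → r ≠ 0 → Pair A c r

theorem exists_factor (hsel : HasSelection K) : ∀ (k : ℕ) (A : Matrix (Fin (k + 1)) (Fin (k + 1)) K)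
    (c r : Fin (k + 1) → K), A.det = 1 → (1 ≤ k → ¬ Scalar A ∧ ¬ SourourProduct.Small (A - 1)) → c ≠ 0 → r ≠ 0 →
      ∃ S S' L U : Matrix (Fin (k + 1)) (Fin (k + 1)) K, S * S' = 1 ∧ S' * S = 1 ∧ S * A * S' = L * U ∧
        IsLower L ∧ IsUpper U ∧ (S *ᵥ c) 0 ≠ 0 ∧ (r ᵥ* S') 0 ≠ 0 := by
  intro k
  induction k with
  | zero =>
    intro A c r hA _ hc hr
    have hI : IsUpper (1 : Matrix (Fin 1) (Fin 1) K) :=
      ⟨fun i => Matrix.one_apply_eq i, fun i j h => absurd h (by rw [Fin.fin_one_eq_zero i, Fin.fin_one_eq_zero j]; exact lt_irrefl _),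
        fun i j h => absurd h (by omega)⟩
    have hA1 : A = 1 := by
      ext i j
      fin_cases i; fin_cases j
      simpa [Matrix.det_fin_one] using hA
    refine ⟨1, 1, 1, 1, one_mul _, one_mul _, by simp [hA1], by unfold IsLower; rwa [transpose_one], hI, ?_, ?_⟩
    · rw [one_mulVec]; exact fun h => hc (funext fun i => by rw [Fin.fin_one_eq_zero i]; exact h)
    · rw [vecMul_one]; exact fun h => hr (funext fun i => by rw [Fin.fin_one_eq_zero i]; exact h)
  | succ k ih =>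
    intro A c r hA hgood hc hr
    obtain ⟨hns, hsm⟩ := hgood (by omega)
    obtain ⟨v, f, hfv, hfAv, hfc, hrv, hAv, hfA, hcomp⟩ := hsel k A c r hA hns hsm hc hr
    obtain ⟨T, T', hTT, hTT', hTv, hT'e, hT0⟩ := exists_frame v f hfv
    set A' := T * A * T' with hA'
    have hA'e : A' *ᵥ e₀ = T *ᵥ (A *ᵥ v) := by
      rw [hA', ← mulVec_mulVec, ← mulVec_mulVec, hT'e]
    have h00 : A' 0 0 = 1 := by
      have := congrFun hA'e 0
      rwa [mulVec_single_one, Matrix.col_apply, hT0, hfAv] at this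
    set c₁ : Fin (k + 1) → K := fun i => A' i.succ 0 with hc₁
    set r₁ : Fin (k + 1) → K := fun j => A' 0 j.succ with hr₁
    set M := A'.submatrix Fin.succ Fin.succ with hM
    have hA'blk : A' = blk 1 r₁ c₁ M := by
      conv_lhs => rw [eq_blk A', h00]
    have hback : ∀ x, T' *ᵥ (T *ᵥ x) = x := fun x => by rw [mulVec_mulVec, hTT', one_mulVec]
    have hc₁0 : c₁ ≠ 0 := fun h => hAv (by
      have : A' *ᵥ e₀ = e₀ := by
        rw [hA'blk, blk_mulVec_e₀, h]
        funext i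
        refine Fin.cases ?_ (fun i => ?_) i <;> simp
      rw [hA'e] at this
      rw [← hback (A *ᵥ v), this, hT'e])
    have hf : f = e₀ ᵥ* T := by
      funext j
      have := hT0 (Pi.single j 1)
      rw [mulVec_single_one, dotProduct_single, mul_one] at this
      rw [single_one_vecMul, ← this]
      rfl
    have hr₁0 : r₁ ≠ 0 := fun h => hfA (by
      have : e₀ ᵥ* A' = e₀ := by
        rw [hA'blk, h, single_one_vecMul]
        funext i
        refine Fin.cases ?_ (fun i => ?_) i <;> simp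
      rw [hf, vecMul_vecMul]
      have h2 : T * A = A' * T := by rw [hA', Matrix.mul_assoc _ T', hTT', Matrix.mul_one]
      rw [h2, ← vecMul_vecMul, this])
    have hdet' : A'.det = 1 := by
      rw [hA', det_mul, det_mul, hA, mul_one, ← det_mul, hTT, det_one]
    set B := M - vecMulVec c₁ r₁ with hBdef
    have hB : B.det = 1 := by rw [hBdef, ← det_blk, ← hA'blk]; exact hdet'
    -- the image of a vector of `ker f`
    have himg : ∀ x, f ⬝ᵥ x = 0 → ∃ y : Fin (k + 1) → K,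
        T *ᵥ x = Fin.cons 0 y ∧ T *ᵥ (A *ᵥ x) = (r₁ ⬝ᵥ y) • (T *ᵥ (A *ᵥ v)) + Fin.cons 0 (B *ᵥ y) := by
      intro x hx
      refine ⟨Fin.tail (T *ᵥ x), ?_, ?_⟩
      · conv_lhs => rw [← Fin.cons_self_tail (T *ᵥ x), hT0, hx]
      · have h1 : T *ᵥ (A *ᵥ x) = A' *ᵥ Fin.cons 0 (Fin.tail (T *ᵥ x)) := by
          rw [show Fin.cons 0 (Fin.tail (T *ᵥ x)) = T *ᵥ x by
            conv_rhs => rw [← Fin.cons_self_tail (T *ᵥ x), hT0, hx]]
          rw [hA', ← mulVec_mulVec, ← mulVec_mulVec, hback]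
        rw [h1, ← hA'e, hA'blk, blk_mulVec_e₀]
        funext i
        refine Fin.cases ?_ (fun i => ?_) i
        · simp [blk, Matrix.mulVec, dotProduct, Fin.sum_univ_succ]
        · have hM' : M *ᵥ Fin.tail (T *ᵥ x) = B *ᵥ Fin.tail (T *ᵥ x) + (r₁ ⬝ᵥ Fin.tail (T *ᵥ x)) • c₁ := by
            rw [hBdef, sub_mulVec, vecMulVec_mulVec, op_smul_eq_smul]; abel
          have := congrFun hM' i
          simp [blk, Matrix.mulVec, dotProduct, Fin.sum_univ_succ] at this ⊢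
          linear_combination this
    have hBgood : 1 ≤ k → ¬ Scalar B ∧ ¬ SourourProduct.Small (B - 1) := by
      intro hk
      obtain ⟨hR, hS⟩ := hcomp (by omega)
      have hsmall : ¬ SourourProduct.Small (B - 1) := by
        rintro ⟨w, φ, hw⟩
        obtain ⟨x, hx, hne⟩ := hR (T' *ᵥ Fin.cons 0 w)
        obtain ⟨y, hy, hAy⟩ := himg x hx
        apply hne (r₁ ⬝ᵥ y) (φ ⬝ᵥ y)
        rw [← hback (A *ᵥ x - x), mulVec_sub T, hAy, hy]
        have : B *ᵥ y = y + (φ ⬝ᵥ y) • w := by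
          have h2 : (B - 1) *ᵥ y = (φ ⬝ᵥ y) • w := by rw [hw, vecMulVec_mulVec, op_smul_eq_smul]
          rw [sub_mulVec, one_mulVec] at h2
          rw [← h2]; abel
        rw [this, add_sub_assoc, show (Fin.cons 0 (y + (φ ⬝ᵥ y) • w) : Fin (k + 2) → K) - Fin.cons 0 y =
            (φ ⬝ᵥ y) • Fin.cons 0 w by funext i; refine Fin.cases ?_ (fun i => ?_) i <;> simp,
          mulVec_add, mulVec_smul, mulVec_smul, hback]
      refine ⟨?_, hsmall⟩
      rintro ⟨l, hl⟩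
      rcases eq_or_ne l 1 with rfl | hl1
      · exact hsmall ⟨0, 0, by rw [hl, one_smul, sub_self, zero_vecMulVec]⟩
      have hlk : l ^ (k + 2 - 1) = 1 := by
        rw [hl, det_smul, det_one, mul_one, Fintype.card_fin] at hB
        simpa using hB
      obtain ⟨x, hx, hne⟩ := hS l hlk hl1
      obtain ⟨y, hy, hAy⟩ := himg x hx
      apply hne (r₁ ⬝ᵥ y)
      rw [← hback (A *ᵥ x - l • x), mulVec_sub T, hAy, mulVec_smul, hy, hl, smul_mulVec, one_mulVec, add_sub_assoc,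
        show (Fin.cons 0 (l • y) : Fin (k + 2) → K) - l • Fin.cons 0 y = 0 by
          funext i; refine Fin.cases ?_ (fun i => ?_) i <;> simp,
        add_zero, mulVec_smul, hback]
    obtain ⟨S₁, S₁', L₁, U₁, hS, hS', hLU, hL, hU, hSc, hrS⟩ := ih B c₁ r₁ hB hBgood hc₁0 hr₁0
    set D := blk (1 : K) 0 0 S₁ with hD
    set D' := blk (1 : K) 0 0 S₁' with hD'
    have hDD : D * D' = 1 := by rw [hD, hD', blk_mul, one_eq_blk, hS]; simp
    have hDD' : D' * D = 1 := by rw [hD, hD', blk_mul, one_eq_blk, hS']; simp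
    refine ⟨D * T, T' * D', blk 1 0 (S₁ *ᵥ c₁) L₁, blk 1 (r₁ ᵥ* S₁') 0 U₁, ?_, ?_, ?_, ?_, ?_, ?_, ?_⟩
    · rw [Matrix.mul_assoc D, ← Matrix.mul_assoc T, hTT, Matrix.one_mul, hDD]
    · rw [Matrix.mul_assoc T', ← Matrix.mul_assoc D', hDD', Matrix.one_mul, hTT']
    · calc D * T * A * (T' * D') = D * A' * D' := by rw [hA']; simp only [Matrix.mul_assoc]
        _ = _ := by
          rw [hA'blk, hD, hD', blk_mul, blk_mul, blk_mul, ← hLU]
          have hM' : S₁ * M * S₁' = vecMulVec (S₁ *ᵥ c₁) (r₁ ᵥ* S₁') + S₁ * B * S₁' := by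
            rw [hBdef, Matrix.mul_sub, Matrix.sub_mul, mul_vecMulVec, vecMulVec_mul]; abel
          simp [hM']
    · unfold IsLower
      rw [transpose_blk]
      exact isUpper_blk hL hSc
    · exact isUpper_blk hU hrS
    · rw [← mulVec_mulVec, hD]
      simpa [Matrix.mulVec, dotProduct, Fin.sum_univ_succ] using (hT0 c).trans_ne hfc
    · rw [← vecMul_vecMul, hD']
      have : (r ᵥ* T') 0 = r ⬝ᵥ v := by
        rw [← hT'e, mulVec_single_one]; rfl
      simpa [Matrix.vecMul, dotProduct, Fin.sum_univ_succ] using this.trans_ne hrv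

end CfsgLib.SLCommutator
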