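import Cfsg.Agent.SLCommutator.Small3Check
import Cfsg.Agent.SLCommutator.Factor

/-!
# The elimination step over the field with three elements in dimensions two and three
-/

set_option autoImplicit false

namespace CfsgLib.SLCommutator.Small3

open Matrix CfsgLib.SourourProduct

def vec (t : T) : Fin 3 → Z := ![t.1, t.2.1, t.2.2]

def mat (A : M) : Matrix (Fin 3) (Fin 3) Z := Matrix.of ![vec A.1, vec A.2.1, vec A.2.2]

def ofVec (v : Fin 3 → Z) : T := (v 0, v 1, v 2)

theorem vec_ofVec (v : Fin 3 → Z) : vec (ofVec v) = v := by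
  funext i; fin_cases i <;> rfl

theorem vec_inj {a b : T} (h : vec a = vec b) : a = b :=
  Prod.ext (congrFun h 0) (Prod.ext (congrFun h 1) (congrFun h 2))

theorem dot_vec (a b : T) : vec a ⬝ᵥ vec b = dot a b := by
  simp [vec, dot, dotProduct, Fin.sum_univ_three]

theorem mulV_vec (A : M) (v : T) : mat A *ᵥ vec v = vec (mulV A v) := by
  funext i
  fin_cases i <;> simp [mat, vec, mulV, dot, Matrix.mulVec, dotProduct, Fin.sum_univ_three]

theorem vMul_vec (A : M) (f : T) : vec f ᵥ* mat A = vec (vMul f A) := by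
  funext i
  fin_cases i <;> simp [mat, vec, vMul, Matrix.vecMul, dotProduct, Fin.sum_univ_three]

theorem det_mat (A : M) : (mat A).det = det A := by
  simp [mat, vec, det, dot, cross, det_fin_three]
  ring

theorem mem_zs (a : Z) : a ∈ zs := by
  revert a; decide

theorem mem_ts (t : T) : t ∈ ts := by
  obtain ⟨a, b, c⟩ := t
  simp only [ts, List.mem_flatMap, List.mem_map]
  exact ⟨a, mem_zs a, b, mem_zs b, c, mem_zs c, rfl⟩

theorem exists_proj (v : Fin 3 → Z) (hv : v ≠ 0) : ∃ t ∈ proj, ∃ s : Z, s ≠ 0 ∧ vec t = s • v := by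
  have h := List.all_eq_true.1 proj_spec (ofVec v) (mem_ts _)
  simp only [Bool.or_eq_true, beq_iff_eq, List.contains_iff_mem] at h
  rcases h with (h | h) | h
  · exfalso
    apply hv
    rw [← vec_ofVec v, h]
    funext i; fin_cases i <;> rfl
  · exact ⟨_, h, 1, one_ne_zero, by rw [vec_ofVec, one_smul]⟩
  · refine ⟨_, h, 2, by decide, ?_⟩
    funext i; fin_cases i <;> simp [vec, smulT, ofVec]

theorem pair_smul {n : ℕ} {A : Matrix (Fin n) (Fin n) Z} {c r : Fin n → Z} {s t : Z} (hs : s ≠ 0)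
    (ht : t ≠ 0) (h : Pair A (s • c) (t • r)) : Pair A c r := by
  obtain ⟨v, f, h1, h2, h3, h4, h5⟩ := h
  refine ⟨v, f, h1, h2, fun e => h3 ?_, fun e => h4 ?_, h5⟩
  · rw [dotProduct_smul, e, smul_zero]
  · rw [smul_dotProduct, e, smul_zero]

theorem pair_conj {n : ℕ} {A C P P' : Matrix (Fin n) (Fin n) Z} (hPP : P * P' = 1) (hP'P : P' * P = 1)
    (hA : A * P = P * C) {c r : Fin n → Z} (h : Pair C (P' *ᵥ c) (r ᵥ* P)) : Pair A c r := by
  obtain ⟨v, f, h1, h2, h3, h4, h5, h6, h7⟩ := h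
  have hAP : ∀ x, A *ᵥ (P *ᵥ x) = P *ᵥ (C *ᵥ x) := fun x => by rw [mulVec_mulVec, hA, ← mulVec_mulVec]
  have hf : ∀ x, (f ᵥ* P') ⬝ᵥ (P *ᵥ x) = f ⬝ᵥ x := fun x => by
    rw [← dotProduct_mulVec, mulVec_mulVec, hP'P, one_mulVec]
  have hcan : ∀ x y, P *ᵥ x = P *ᵥ y → x = y := fun x y h => by
    have := congrArg (P' *ᵥ ·) h
    simpa [mulVec_mulVec, hP'P] using this
  refine ⟨P *ᵥ v, f ᵥ* P', by rw [hf, h1], by rw [hAP, hf, h2], by rw [← dotProduct_mulVec]; exact h3,
    by rw [dotProduct_mulVec]; exact h4, fun e => h5 (hcan _ _ (by rw [← hAP, e])), fun e => h6 ?_,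
    fun hn => ⟨fun w => ?_, fun l hl hl1 => ?_⟩⟩
  · have h8 : f ᵥ* P' ᵥ* A ᵥ* P = f ᵥ* P' ᵥ* P := by rw [e]
    rwa [vecMul_vecMul (f ᵥ* P') A P, hA, ← vecMul_vecMul, vecMul_vecMul f P' P, hP'P, vecMul_one] at h8
  · obtain ⟨x, hx, hne⟩ := (h7 hn).1 (P' *ᵥ w)
    refine ⟨P *ᵥ x, by rw [hf, hx], fun a b e => hne a b (hcan _ _ ?_)⟩
    rw [mulVec_sub, ← hAP, e, mulVec_add, mulVec_smul, mulVec_smul, hAP, mulVec_mulVec w P P', hPP, one_mulVec]
  · obtain ⟨x, hx, hne⟩ := (h7 hn).2 l hl hl1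
    refine ⟨P *ᵥ x, by rw [hf, hx], fun a e => hne a (hcan _ _ ?_)⟩
    rw [mulVec_sub, mulVec_smul, ← hAP, e, mulVec_smul, hAP]

theorem pair_of_step {A : M} {c r f v : T} (h : step A c r f v = true) : Pair (mat A) (vec c) (vec r) := by
  simp only [step, Bool.and_eq_true, beq_iff_eq, bne_iff_ne, ne_eq, List.any_eq_true] at h
  obtain ⟨⟨⟨⟨⟨⟨⟨h1, h2⟩, h3⟩, h4⟩, h5⟩, h6⟩, x, hx, y, hy, hR⟩, z, hz, hS⟩ := h
  have hker : ∀ x ∈ kers f, dot f x = 0 := by
    intro x hx
    simp only [kers, List.mem_cons, List.not_mem_nil, or_false] at hx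
    rcases hx with rfl | rfl | rfl <;> simp [cross, dot] <;> ring
  refine ⟨vec v, vec f, by rw [dot_vec, h1], by rw [mulV_vec, dot_vec, h2], by rw [dot_vec]; exact h3,
    by rw [dot_vec]; exact h4, fun e => h5 (vec_inj (by rw [← mulV_vec, e])),
    fun e => h6 (vec_inj (by rw [← vMul_vec, e])), fun _ => ⟨fun w => ?_, fun l hl hl1 => ?_⟩⟩
  · by_contra hh
    push Not at hh
    obtain ⟨a, b, hab⟩ := hh (vec x) (by rw [dot_vec, hker x hx])
    obtain ⟨a', b', hab'⟩ := hh (vec y) (by rw [dot_vec, hker y hy])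
    rw [← vec_ofVec w, mulV_vec, mulV_vec] at hab hab'
    generalize mulV A v = u at hR hab hab'
    generalize ofVec w = w' at hab hab'
    obtain ⟨u1, u2, u3⟩ := u
    obtain ⟨w1, w2, w3⟩ := w'
    have e0 := congrFun hab 0
    have e1 := congrFun hab 1
    have e2 := congrFun hab 2
    have g0 := congrFun hab' 0
    have g1 := congrFun hab' 1
    have g2 := congrFun hab' 2
    simp [vec] at e0 e1 e2 g0 g1 g2
    apply hR
    simp only [dot, cross, sub, e0, e1, e2, g0, g1, g2]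
    ring
  · have hl2 : l = 2 := by
      revert hl hl1
      revert l
      decide
    subst hl2
    refine ⟨vec z, by rw [dot_vec, hker z hz], fun a e => hS ?_⟩
    rw [mulV_vec, mulV_vec] at e
    generalize mulV A v = u at e ⊢
    obtain ⟨u1, u2, u3⟩ := u
    have h30 : (3 : Z) = 0 := by decide
    have e0 := congrFun e 0
    have e1 := congrFun e 1
    have e2 := congrFun e 2
    simp [vec] at e0 e1 e2
    have a0 : (mulV A z).1 + z.1 = a * u1 := by linear_combination e0 + z.1 * h30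
    have a1 : (mulV A z).2.1 + z.2.1 = a * u2 := by linear_combination e1 + z.2.1 * h30
    have a2 : (mulV A z).2.2 + z.2.2 = a * u3 := by linear_combination e2 + z.2.2 * h30
    simp only [cross, add, a0, a1, a2, Prod.mk.injEq]
    exact ⟨by ring, by ring, by ring⟩

theorem small_spec :
    (((zs.flatMap fun b => zs.map fun g => (((0, 0, 1), (1, 0, b), (0, 1, g)) : M)) ++
      (zs.flatMap fun a => zs.flatMap fun b => zs.flatMap fun p => zs.flatMap fun s => zs.map fun m =>
        (((0, b, p), (1, a, s), (0, 0, m)) : M))).all fun A => notSmall A ||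
      ts.any fun w => ts.any fun φ => sub A.1 (1, 0, 0) == smulT w.1 φ &&
        sub A.2.1 (0, 1, 0) == smulT w.2.1 φ && sub A.2.2 (0, 0, 1) == smulT w.2.2 φ) = true := by
  decide +kernel

theorem small_conj {n : ℕ} {A C P P' : Matrix (Fin n) (Fin n) Z} (hPP : P * P' = 1)
    (hA : A * P = P * C) (h : SourourProduct.Small (C - 1)) : SourourProduct.Small (A - 1) := by
  obtain ⟨w, φ, hw⟩ := h
  refine ⟨P *ᵥ w, φ ᵥ* P', ?_⟩
  rw [← vecMulVec_mul, ← mul_vecMulVec, ← hw, Matrix.mul_sub, ← hA, Matrix.mul_one, Matrix.sub_mul,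
    Matrix.mul_assoc, hPP, Matrix.mul_one]

theorem pair_form {A : Matrix (Fin 3) (Fin 3) Z} (hdet : A.det = 1) (hsm : ¬ SourourProduct.Small (A - 1))
    {c r : Fin 3 → Z} (hc : c ≠ 0) (hr : r ≠ 0) {C : M} {P : Matrix (Fin 3) (Fin 3) Z} (hP : IsUnit P.det)
    (hA : A * P = P * mat C)
    (hC : C ∈ ((zs.flatMap fun b => zs.map fun g => (((0, 0, 1), (1, 0, b), (0, 1, g)) : M)) ++
      ((zs.flatMap fun a => zs.flatMap fun b => zs.flatMap fun p => zs.flatMap fun s => zs.map fun m =>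
        ((((0, b, p), (1, a, s), (0, 0, m)) : M), a, b)).filter (fun x => isQuad x.1 x.2.1 x.2.2)).map
        Prod.fst)) : Pair A c r := by
  have hPP : P * P⁻¹ = 1 := Matrix.mul_nonsing_inv P hP
  have hP'P : P⁻¹ * P = 1 := Matrix.nonsing_inv_mul P hP
  have hd : det C = 1 := by
    have h := congrArg Matrix.det hA
    rw [det_mul, det_mul, hdet, one_mul, det_mat] at h
    exact (mul_left_cancel₀ hP.ne_zero (by rw [mul_one]; exact h)).symm
  have hns : notSmall C = true := by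
    have hmem : C ∈ ((zs.flatMap fun b => zs.map fun g => (((0, 0, 1), (1, 0, b), (0, 1, g)) : M)) ++
        (zs.flatMap fun a => zs.flatMap fun b => zs.flatMap fun p => zs.flatMap fun s => zs.map fun m =>
          (((0, b, p), (1, a, s), (0, 0, m)) : M))) := by
      rw [List.mem_append] at hC ⊢
      refine hC.imp id fun h => ?_
      simp only [List.mem_map, List.mem_filter, List.mem_flatMap] at h ⊢
      obtain ⟨x, ⟨⟨a, ha, b, hb, p, hp, s, hs, m, hm, rfl⟩, -⟩, rfl⟩ := h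
      exact ⟨a, ha, b, hb, p, hp, s, hs, m, hm, rfl⟩
    have h := List.all_eq_true.1 small_spec C hmem
    simp only [Bool.or_eq_true, List.any_eq_true, Bool.and_eq_true, beq_iff_eq] at h
    rcases h with h | ⟨w, -, φ, -, ⟨h1, h2⟩, h3⟩
    · exact h
    · exfalso
      refine hsm (small_conj hPP hA ⟨vec w, vec φ, ?_⟩)
      obtain ⟨⟨a, b, c'⟩, ⟨d, e, f⟩, ⟨g, h', i'⟩⟩ := C
      simp only [sub, smulT, Prod.mk.injEq] at h1 h2 h3
      obtain ⟨p1, p2, p3⟩ := h1
      obtain ⟨q1, q2, q3⟩ := h2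
      obtain ⟨s1, s2, s3⟩ := h3
      ext i j
      fin_cases i <;> fin_cases j <;>
        simp [mat, vec, vecMulVec_apply, ← p1, ← p2, ← p3, ← q1, ← q2, ← q3, ← s1, ← s2, ← s3]
  have hC' : C ∈ forms := by
    simp only [forms, List.mem_filter, Bool.and_eq_true, beq_iff_eq]
    exact ⟨hC, hd, hns⟩
  have hc' : P⁻¹ *ᵥ c ≠ 0 := fun h => hc (by
    have := congrArg (P *ᵥ ·) h
    simpa [mulVec_mulVec, hPP] using this)
  have hr' : r ᵥ* P ≠ 0 := fun h => hr (by
    have := congrArg (· ᵥ* P⁻¹) h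
    simpa [vecMul_vecMul, hPP] using this)
  obtain ⟨tc, htc, s, hs, hsc⟩ := exists_proj _ hc'
  obtain ⟨tr, htr, t, ht, htr'⟩ := exists_proj _ hr'
  have hg := List.all_eq_true.1 (List.all_eq_true.1 (List.all_eq_true.1 forms_good C hC') tc htc) tr htr
  simp only [good, List.any_eq_true, Bool.and_eq_true] at hg
  obtain ⟨f, -, -, v, -, -, hstep⟩ := hg
  refine pair_conj hPP hP'P hA (pair_smul hs ht ?_)
  rw [← hsc, ← htr']
  exact pair_of_step hstep

theorem pair_three {A : Matrix (Fin 3) (Fin 3) Z} (hdet : A.det = 1) (hns : ¬ Scalar A)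
    (hsm : ¬ SourourProduct.Small (A - 1)) {c r : Fin 3 → Z} (hc : c ≠ 0) (hr : r ≠ 0) : Pair A c r := by
  have hcoord : ∀ (P : Matrix (Fin 3) (Fin 3) Z), IsUnit P.det → ∀ x : Fin 3 → Z, ∃ t : T, x = P *ᵥ vec t :=
    fun P hP x => ⟨ofVec (P⁻¹ *ᵥ x), by rw [vec_ofVec, mulVec_mulVec, Matrix.mul_nonsing_inv P hP, one_mulVec]⟩
  by_cases hcyc : ∃ v, Indep3 A v
  · obtain ⟨v, hv⟩ := hcyc
    set P : Matrix (Fin 3) (Fin 3) Z := (Matrix.of ![v, A *ᵥ v, A *ᵥ (A *ᵥ v)]).transpose with hP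
    have hPx : ∀ x, P *ᵥ x = x 0 • v + x 1 • (A *ᵥ v) + x 2 • (A *ᵥ (A *ᵥ v)) := by
      intro x; funext i
      simp [hP, Matrix.mulVec, dotProduct, Fin.sum_univ_three, mul_comm]
    have hPu : IsUnit P.det := isUnit_iff_ne_zero.2 fun h => by
      obtain ⟨x, hx, hPx0⟩ := Matrix.exists_mulVec_eq_zero_iff.2 h
      rw [hPx] at hPx0
      obtain ⟨h0, h1, h2⟩ := hv _ _ _ hPx0
      exact hx (funext fun i => by fin_cases i <;> assumption)
    obtain ⟨⟨α, β, γ⟩, hcol⟩ := hcoord P hPu (A *ᵥ (A *ᵥ (A *ᵥ v)))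
    rw [hPx] at hcol
    simp [vec, -Matrix.mulVec_mulVec] at hcol
    have hA : A * P = P * mat ((0, 0, α), (1, 0, β), (0, 1, γ)) := by
      refine Matrix.ext_iff_mulVec.2 fun x => ?_
      rw [← mulVec_mulVec, ← mulVec_mulVec, hPx, hPx, mulVec_add, mulVec_add, mulVec_smul, mulVec_smul,
        mulVec_smul, hcol]
      simp [mat, vec, Matrix.mulVec, dotProduct, Fin.sum_univ_three]
      module
    have hα : α = 1 := by
      have h := congrArg Matrix.det hA
      rw [det_mul, det_mul, hdet, one_mul, det_mat] at h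
      have h1 : (1 : Z) = det ((0, 0, α), (1, 0, β), (0, 1, γ)) :=
        mul_left_cancel₀ hPu.ne_zero (by rw [mul_one]; exact h)
      simpa [det, dot, cross, eq_comm] using h1
    subst hα
    refine pair_form hdet hsm hc hr hPu hA (List.mem_append_left _ ?_)
    simp only [List.mem_flatMap, List.mem_map]
    exact ⟨β, mem_zs β, γ, mem_zs γ, rfl⟩
  · push Not at hcyc
    obtain ⟨a, b, hab⟩ := quadratic_of_forall_not_indep3 hns hcyc
    obtain ⟨v, hv⟩ : ∃ v : Fin 3 → Z, ∀ s : Z, A *ᵥ v ≠ s • v := by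
      by_contra hh
      push Not at hh
      refine hns ?_
      choose s hs using hh
      refine ⟨s (Pi.single 0 1), ?_⟩
      have h := hs (Pi.single 0 1 + Pi.single 1 1 + Pi.single 2 1)
      rw [mulVec_add, mulVec_add, hs (Pi.single 0 1), hs (Pi.single 1 1), hs (Pi.single 2 1)] at h
      have e0 := congrFun h 0
      have e1 := congrFun h 1
      have e2 := congrFun h 2
      simp at e0 e1 e2
      refine Matrix.ext_of_mulVec_single fun j => ?_
      rw [hs, smul_mulVec, one_mulVec]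
      fin_cases j
      · rfl
      · show s (Pi.single (1 : Fin 3) 1) • _ = _
        rw [e1, ← e0]
      · show s (Pi.single (2 : Fin 3) 1) • _ = _
        rw [e2, ← e0]
    have hind : LinearIndependent Z ![v, A *ᵥ v] := by
      rw [linearIndependent_fin2]
      refine ⟨?_, fun s h => ?_⟩
      · show A *ᵥ v ≠ 0
        exact fun h => hv 0 (by rw [zero_smul]; exact h)
      · rcases eq_or_ne s 0 with rfl | hs0
        · simp at h
          exact hv 0 (by rw [← h, mulVec_zero, smul_zero])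
        · exact hv s⁻¹ (by
            have h' : s • (A *ᵥ v) = v := h
            conv_rhs => rw [← h', smul_smul, inv_mul_cancel₀ hs0, one_smul])
    obtain ⟨z, hz⟩ : ∃ z, z ∉ Submodule.span Z (Set.range ![v, A *ᵥ v]) := by
      by_contra hh
      push Not at hh
      have htop : Submodule.span Z (Set.range ![v, A *ᵥ v]) = ⊤ := Submodule.eq_top_iff'.2 hh
      have h := finrank_span_eq_card hind
      rw [htop, finrank_top, Module.finrank_pi, Fintype.card_fin, Fintype.card_fin] at h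
      omega
    set P : Matrix (Fin 3) (Fin 3) Z := (Matrix.of ![v, A *ᵥ v, z]).transpose with hP
    have hPx : ∀ x, P *ᵥ x = x 0 • v + x 1 • (A *ᵥ v) + x 2 • z := by
      intro x; funext i
      simp [hP, Matrix.mulVec, dotProduct, Fin.sum_univ_three, mul_comm]
    have hPu : IsUnit P.det := isUnit_iff_ne_zero.2 fun h => by
      obtain ⟨x, hx, hPx0⟩ := Matrix.exists_mulVec_eq_zero_iff.2 h
      rw [hPx] at hPx0
      have h2 : x 2 = 0 := by
        by_contra h2
        apply hz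
        have : z = (-(x 2)⁻¹) • (x 0 • v + x 1 • (A *ᵥ v)) := by
          rw [eq_neg_of_add_eq_zero_left hPx0, smul_neg, neg_smul, neg_neg, inv_smul_smul₀ h2]
        rw [this]
        exact Submodule.smul_mem _ _ (Submodule.add_mem _ (Submodule.smul_mem _ _ (Submodule.subset_span ⟨0, rfl⟩))
          (Submodule.smul_mem _ _ (Submodule.subset_span ⟨1, rfl⟩)))
      rw [h2, zero_smul, add_zero] at hPx0
      obtain ⟨h0, h1⟩ := LinearIndependent.pair_iff.1 hind _ _ hPx0
      exact hx (funext fun i => by fin_cases i <;> assumption)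
    obtain ⟨⟨p, s, m⟩, hcol⟩ := hcoord P hPu (A *ᵥ z)
    rw [hPx] at hcol
    simp [vec, -Matrix.mulVec_mulVec] at hcol
    have hAA : A *ᵥ (A *ᵥ v) = a • (A *ᵥ v) + b • v := by
      rw [mulVec_mulVec, hab, add_mulVec, smul_mulVec, smul_mulVec, one_mulVec]
    have hA : A * P = P * mat ((0, b, p), (1, a, s), (0, 0, m)) := by
      refine Matrix.ext_iff_mulVec.2 fun x => ?_
      rw [← mulVec_mulVec, ← mulVec_mulVec, hPx, hPx, mulVec_add, mulVec_add, mulVec_smul, mulVec_smul,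
        mulVec_smul, hcol, hAA]
      simp [mat, vec, Matrix.mulVec, dotProduct, Fin.sum_univ_three]
      module
    refine pair_form hdet hsm hc hr hPu hA (List.mem_append_right _ ?_)
    simp only [List.mem_map, List.mem_filter, List.mem_flatMap]
    refine ⟨(((0, b, p), (1, a, s), (0, 0, m)), a, b),
      ⟨⟨a, mem_zs a, b, mem_zs b, p, mem_zs p, s, mem_zs s, m, mem_zs m, rfl⟩, ?_⟩, rfl⟩
    -- the relation passes to the normal form
    set C := mat ((0, b, p), (1, a, s), (0, 0, m))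
    have hCC : C * C = a • C + b • 1 := by
      have h1 : P * (C * C) = P * (a • C + b • 1) := by
        rw [← Matrix.mul_assoc, ← hA, Matrix.mul_assoc, ← hA, ← Matrix.mul_assoc, hab, Matrix.mul_add,
          Matrix.mul_smul, Matrix.mul_smul, ← hA, Matrix.mul_one, Matrix.add_mul, Matrix.smul_mul,
          Matrix.smul_mul, Matrix.one_mul]
      have := congrArg (P⁻¹ * ·) h1
      simpa only [← Matrix.mul_assoc, Matrix.nonsing_inv_mul P hPu, Matrix.one_mul] using this
    simp only [isQuad, List.all_eq_true, beq_iff_eq]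
    intro x _
    apply vec_inj
    rw [← mulV_vec, ← mulV_vec, mulVec_mulVec, hCC, add_mulVec, smul_mulVec, smul_mulVec, one_mulVec, mulV_vec]
    funext i
    fin_cases i <;> simp [vec, add, smulT]

theorem pair_two {A : Matrix (Fin 2) (Fin 2) Z} (hdet : A.det = 1) (hns : ¬ Scalar A)
    (hsm : ¬ SourourProduct.Small (A - 1)) {c r : Fin 2 → Z} (hc : c ≠ 0) (hr : r ≠ 0) : Pair A c r := by
  have key : ∀ A : Matrix (Fin 2) (Fin 2) Z, ∀ v : Fin 2 → Z, v 0 * (A *ᵥ v) 1 - v 1 * (A *ᵥ v) 0 ≠ 0 →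
      A * !![v 0, (A *ᵥ v) 0; v 1, (A *ᵥ v) 1] = !![v 0, (A *ᵥ v) 0; v 1, (A *ᵥ v) 1] * !![0, -A.det; 1, A.trace] := by
    intro A v _
    ext i j
    fin_cases i <;> fin_cases j <;>
      simp [Matrix.mul_apply, Matrix.mulVec, dotProduct, Fin.sum_univ_two, det_fin_two, trace_fin_two] <;> ring
  obtain ⟨v, hv⟩ : ∃ v : Fin 2 → Z, v 0 * (A *ᵥ v) 1 - v 1 * (A *ᵥ v) 0 ≠ 0 := by
    by_contra hh
    push Not at hh
    have e0 := hh ![1, 0]
    have e1 := hh ![0, 1]
    have e2 := hh ![1, 1]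
    simp [Matrix.mulVec, dotProduct, Fin.sum_univ_two] at e0 e1 e2
    refine hns ⟨A 0 0, ?_⟩
    ext i j
    fin_cases i <;> fin_cases j <;> simp [e0, e1]
    linear_combination e2 + e1 - e0
  set P : Matrix (Fin 2) (Fin 2) Z := !![v 0, (A *ᵥ v) 0; v 1, (A *ᵥ v) 1] with hP
  have hPu : IsUnit P.det := isUnit_iff_ne_zero.2 (by
    rw [hP, det_fin_two]; simpa [mul_comm, sub_eq_zero] using hv)
  have hA : A * P = P * !![0, 2; 1, A.trace] := by
    rw [key A v hv, hdet]
    rfl
  have hPP := Matrix.mul_nonsing_inv P hPu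
  have hP'P := Matrix.nonsing_inv_mul P hPu
  have hb : A.trace ∈ [(0 : Z), 1] := by
    have h3 : ∀ t : Z, t = 0 ∨ t = 1 ∨ t = 2 := by decide
    rcases h3 A.trace with h | h | h
    · simp [h]
    · simp [h]
    · exfalso
      refine hsm (small_conj hPP hA ⟨![1, 2], ![2, 2], ?_⟩)
      rw [h]
      ext i j
      fin_cases i <;> fin_cases j <;> simp [vecMulVec_apply] <;> decide
  refine pair_conj hPP hP'P hA ?_
  have hc' : P⁻¹ *ᵥ c ≠ 0 := fun h => hc (by
    have := congrArg (P *ᵥ ·) h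
    simpa only [mulVec_mulVec, hPP, one_mulVec, mulVec_zero] using this)
  have hr' : r ᵥ* P ≠ 0 := fun h => hr (by
    have := congrArg (· ᵥ* P⁻¹) h
    simpa only [vecMul_vecMul, hPP, vecMul_one, zero_vecMul] using this)
  generalize P⁻¹ *ᵥ c = c', r ᵥ* P = r', A.trace = b at hc' hr' hb ⊢
  have hmem : ∀ x : Z × Z, x ∈ ps := by decide
  have h := List.all_eq_true.1 (List.all_eq_true.1 (List.all_eq_true.1 good2_all b hb) (c' 0, c' 1) (hmem _))
    (r' 0, r' 1) (hmem _)
  simp only [Bool.or_eq_true, beq_iff_eq, Prod.mk.injEq] at h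
  rcases h with (⟨h0, h1⟩ | ⟨h0, h1⟩) | h
  · exact absurd (funext fun i => by fin_cases i <;> assumption) hc'
  · exact absurd (funext fun i => by fin_cases i <;> assumption) hr'
  simp only [good2, List.any_eq_true, Bool.and_eq_true, beq_iff_eq, bne_iff_ne, ne_eq] at h
  obtain ⟨⟨f0, f1⟩, -, hfc, ⟨v0, v1⟩, -, ⟨⟨⟨h1, h2⟩, h4⟩, h5⟩, h6⟩ := h
  refine ⟨![v0, v1], ![f0, f1], ?_, ?_, ?_, ?_, fun e => h5 ?_, fun e => h6 ?_, fun hn => absurd hn (by omega)⟩
  · simpa [dotProduct, Fin.sum_univ_two] using h1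
  · simpa [Matrix.mulVec, dotProduct, Fin.sum_univ_two, mul_comm] using h2
  · simpa [dotProduct, Fin.sum_univ_two] using hfc
  · simpa [dotProduct, Fin.sum_univ_two] using h4
  · have e0 := congrFun e 0
    have e1 := congrFun e 1
    simp [Matrix.mulVec, dotProduct, Fin.sum_univ_two] at e0 e1
    exact Prod.ext e0 e1
  · have e0 := congrFun e 0
    have e1 := congrFun e 1
    simp [Matrix.vecMul, dotProduct, Fin.sum_univ_two] at e0 e1
    exact Prod.ext e0 e1

end CfsgLib.SLCommutator.Small3
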