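import Cfsg.Agent.SLCommutator.Select3
import Cfsg.Agent.SLCommutator.Small3
import Cfsg.Agent.SLCommutator.Twist

/-!
# Commutators in `SL_n(3)`
-/

set_option autoImplicit false

namespace CfsgLib.SLCommutator

open Matrix CfsgLib.SourourProduct Module

/-- The functional of a vector. -/
def dualOf {F : Type*} [Field F] {n : ℕ} (r : Fin n → F) : Module.Dual F (Fin n → F) :=
  { toFun := fun x => r ⬝ᵥ x
    map_add' := fun x y => dotProduct_add r x y
    map_smul' := fun t x => by simp [dotProduct_smul] }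

theorem dual_eq_dot {F : Type*} [Field F] {n : ℕ} (f : Module.Dual F (Fin n → F)) (x : Fin n → F) :
    (fun i => f (Pi.single i 1)) ⬝ᵥ x = f x := by
  conv_rhs => rw [← Finset.univ_sum_single x, map_sum]
  simp only [dotProduct]
  refine Finset.sum_congr rfl fun i _ => ?_
  rw [show (Pi.single i (x i) : Fin n → F) = x i • Pi.single i 1 by rw [← Pi.single_smul]; simp, map_smul]
  simp [mul_comm]

/-- `A - 1` has rank at least two unless it is small. -/
theorem two_le_rank {F : Type*} [Field F] {n : ℕ} {A : Matrix (Fin n) (Fin n) F}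
    (h : ¬ SourourProduct.Small (A - 1)) : 2 ≤ finrank F (LinearMap.range (A.mulVecLin - 1)) := by
  by_contra hlt
  push Not at hlt
  obtain ⟨w, hw⟩ := (Submodule.finrank_le_one_iff_isPrincipal (LinearMap.range (A.mulVecLin - 1))).1 (by omega)
  have : ∀ i : Fin n, ∃ s : F, s • w = (A - 1) *ᵥ Pi.single i 1 := fun i => by
    refine Submodule.mem_span_singleton.1 ?_
    rw [← hw]
    exact ⟨Pi.single i 1, by show A *ᵥ _ - Pi.single i 1 = _; rw [sub_mulVec, one_mulVec]⟩
  choose s hs using this
  refine h ⟨w, s, ?_⟩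
  ext i k
  have hk := congrFun (hs k) i
  rw [mulVec_single_one] at hk
  simp only [Pi.smul_apply, smul_eq_mul, Matrix.col_apply] at hk
  rw [vecMulVec_apply, mul_comm]
  exact hk.symm

theorem hasSelection_three : HasSelection (ZMod 3) := by
  intro k A c r hA hns hsm hc hr
  match k, A, c, r with
  | 0, A, c, r => exact Small3.pair_two hA hns hsm hc hr
  | 1, A, c, r => exact Small3.pair_three hA hns hsm hc hr
  | k + 2, A, c, r =>
    have hinj : Function.Injective A.mulVecLin := by
      rw [← LinearMap.ker_eq_bot, LinearMap.ker_eq_bot']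
      exact fun x hx => Matrix.eq_zero_of_mulVec_eq_zero (by rw [hA]; exact one_ne_zero) hx
    have hplus : A.mulVecLin + 1 ≠ 0 := fun h => hns ⟨-1, Matrix.ext_iff_mulVec.2 fun x => by
      have := LinearMap.congr_fun h x
      rw [neg_smul, one_smul, neg_mulVec, one_mulVec]
      exact eq_neg_of_add_eq_zero_left this⟩
    have hr' : dualOf r ≠ 0 := fun h => hr (funext fun i => by
      have := LinearMap.congr_fun h (Pi.single i 1)
      simpa [dualOf] using this)
    obtain ⟨v, f, h1, h2, h3, h4, h5, h6, h7, h8⟩ := exists_step_three (n := k + 4) (Nat.card_zmod 3) (by omega)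
      (by rw [Module.finrank_pi, Fintype.card_fin]) A.mulVecLin hinj (two_le_rank hsm) hplus (c := c)
      (r := dualOf r) hc hr'
    refine ⟨v, fun i => f (Pi.single i 1), by rw [dual_eq_dot]; exact h1, by rw [dual_eq_dot]; exact h2,
      by rw [dual_eq_dot]; exact h3, h4, h5, fun e => h6 (LinearMap.ext fun x => ?_),
      fun _ => ⟨fun w => ?_, fun l hl hl1 => ?_⟩⟩
    · show f (A *ᵥ x) = f x
      rw [← dual_eq_dot, dotProduct_mulVec, e, dual_eq_dot]
    · obtain ⟨x, hx, hne⟩ := h7 w
      exact ⟨x, by rw [dual_eq_dot]; exact hx, fun a b => hne a b⟩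
    · have hl0 : l ≠ 0 := fun h => by
        rw [h, zero_pow (show k + 2 + 2 - 1 ≠ 0 by omega)] at hl; exact zero_ne_one hl
      have h3' : ∀ x : ZMod 3, x ≠ 0 → x ≠ 1 → x = -1 := by decide
      obtain rfl := h3' l hl0 hl1
      have hodd : Odd (k + 4) := by
        rcases Nat.even_or_odd (k + 4) with he | ho
        · exfalso
          obtain ⟨j, hj⟩ := he
          rw [show k + 2 + 2 - 1 = 2 * (j - 1) + 1 by omega, pow_add, pow_mul, neg_one_sq, one_pow, one_mul,
            pow_one] at hl
          exact hl1 hl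
        · exact ho
      obtain ⟨x, hx, hne⟩ := h8 hodd
      refine ⟨x, by rw [dual_eq_dot]; exact hx, fun a e => hne a ?_⟩
      rw [neg_smul, one_smul, sub_neg_eq_add] at e
      exact e

theorem isComm_three {n : ℕ} (hn : 3 ≤ n) (g : Matrix (Fin n) (Fin n) (ZMod 3)) (hg : g.det = 1)
    (hns : ¬ Scalar g) : IsComm g := by
  by_cases hsm : SourourProduct.Small (g - 1)
  · obtain ⟨m, rfl⟩ : ∃ m, n = m + 3 := ⟨n - 3, by omega⟩
    exact isComm_transvection hg hsm
  obtain ⟨k, rfl⟩ : ∃ k, n = k + 1 := ⟨n - 1, by omega⟩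
  have h1 : (Pi.single 0 1 : Fin (k + 1) → ZMod 3) ≠ 0 := fun e => by simpa using congrFun e 0
  obtain ⟨S, S', L, U, hS, hS', h, hL, hU, -, -⟩ :=
    exists_factor hasSelection_three k g _ _ hg (fun _ => ⟨hns, hsm⟩) h1 h1
  refine IsComm.conj (g := L * U) (S := S') ?_ (fun e => by
    simpa [e] using congrArg det hS) (by
    rw [← h, ← Matrix.mul_assoc, ← Matrix.mul_assoc, hS', Matrix.one_mul])
  have hK : ∀ x : ZMod 3, x ≠ 0 → x = 1 ∨ x = -1 := by decide
  rcases Nat.even_or_odd (k + 1) with he | ho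
  · obtain ⟨m, hm⟩ : ∃ m, k + 1 = 2 + m := ⟨k - 1, by omega⟩
    clear h hS hS' h1 hns hsm hg g S S'
    revert L U he
    rw [hm]
    intro L U hL hU he
    refine isComm_twist (show ((3 : ℕ) : ZMod 3) = 0 from rfl) hK (by decide) ?_ (by omega) hL hU
    rwa [Nat.even_add, iff_true_left even_two] at he
  · refine isComm_of_factor hL hU (fun _ => 1) (fun _ => one_ne_zero) (fun _ _ _ _ _ _ => rfl)
      Finset.prod_const_one fun x hx => ⟨Polynomial.C x, ?_⟩
    rw [Finset.prod_const, Finset.card_univ, Fintype.card_fin, Polynomial.eval_C]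
    rcases hK x hx with rfl | rfl
    · rw [one_pow]
    · rw [ho.neg_one_pow]

end CfsgLib.SLCommutator
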