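import Mathlib

/-!
# Regular nilpotent maps, factorisations into regular unipotent maps, and commutators
-/

set_option autoImplicit false

namespace CfsgLib.SLCommutator

open Module Submodule

variable {F V W : Type*} [Field F] [AddCommGroup V] [Module F V] [AddCommGroup W] [Module F W]

/-- A regular nilpotent map. -/
def IsReg (N : Module.End F V) : Prop :=
  IsNilpotent N ∧ finrank F (LinearMap.range N) + 1 = finrank F V

/-- A factorisation into regular unipotents with two side conditions. -/
def Fac (a : Module.End F V) (c : V) (r : Module.Dual F V) : Prop :=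
  ∃ X Y : Module.End F V, IsReg (X - 1) ∧ IsReg (Y - 1) ∧ a = X * Y ∧
    c ∉ LinearMap.range (X - 1) ∧ ∃ x, (Y - 1) x = 0 ∧ r x ≠ 0

/-- A commutator of linear bijections. -/
def CommEnd (g : Module.End F V) : Prop :=
  ∃ a b a' b' : Module.End F V, a * a' = 1 ∧ b * b' = 1 ∧ g = a * b * a' * b'

theorem CommEnd.of_equiv {g : Module.End F V} {h : Module.End F W} (e : V ≃ₗ[F] W)
    (he : ∀ x, h (e x) = e (g x)) (hg : CommEnd g) : CommEnd h := by
  obtain ⟨a, b, a', b', ha, hb, rfl⟩ := hg
  refine ⟨e.conj a, e.conj b, e.conj a', e.conj b', ?_, ?_, ?_⟩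
  · ext x
    have := LinearMap.congr_fun ha (e.symm x)
    simpa [LinearEquiv.conj_apply] using congrArg e this
  · ext x
    have := LinearMap.congr_fun hb (e.symm x)
    simpa [LinearEquiv.conj_apply] using congrArg e this
  · ext x
    have := he (e.symm x)
    rw [LinearEquiv.apply_symm_apply] at this
    simpa [LinearEquiv.conj_apply] using this

theorem CommEnd.prod_one {g : Module.End F V} (hg : CommEnd g) :
    CommEnd (g.prodMap (1 : Module.End F W)) := by
  obtain ⟨a, b, a', b', ha, hb, rfl⟩ := hg
  refine ⟨a.prodMap 1, b.prodMap 1, a'.prodMap 1, b'.prodMap 1, ?_, ?_, ?_⟩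
  · exact LinearMap.ext fun x => Prod.ext (LinearMap.congr_fun ha x.1) rfl
  · exact LinearMap.ext fun x => Prod.ext (LinearMap.congr_fun hb x.1) rfl
  · exact LinearMap.ext fun x => rfl

variable [Module.Finite F V]

/-- The kernels of the powers of a map with one-dimensional kernel grow by one. -/
theorem finrank_ker_pow_le {N : Module.End F V} (h : finrank F (LinearMap.ker N) ≤ 1) (k : ℕ) :
    finrank F (LinearMap.ker (N ^ k)) ≤ k := by
  induction k with
  | zero => rw [pow_zero, show LinearMap.ker (1 : Module.End F V) = ⊥ from LinearMap.ker_id, finrank_bot]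
  | succ k ih =>
    set g := N.domRestrict (LinearMap.ker (N ^ (k + 1))) with hg
    have h1 := LinearMap.finrank_range_add_finrank_ker g
    have h2 : finrank F (LinearMap.range g) ≤ finrank F (LinearMap.ker (N ^ k)) := Submodule.finrank_mono (by
      rintro _ ⟨⟨x, hx⟩, rfl⟩
      have hx' : (N ^ (k + 1)) x = 0 := hx
      rw [pow_succ] at hx'
      exact hx')
    have h3 : finrank F (LinearMap.ker g) ≤ 1 := by
      rw [← Submodule.finrank_map_subtype_eq]
      refine le_trans (Submodule.finrank_mono ?_) h
      rintro _ ⟨x, hx, rfl⟩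
      exact hx
    omega

theorem IsReg.ker {N : Module.End F V} (hN : IsReg N) : finrank F (LinearMap.ker N) = 1 := by
  have := LinearMap.finrank_range_add_finrank_ker N
  have := hN.2
  omega

/-- A regular nilpotent map has a basis of iterates. -/
theorem IsReg.exists_basis {N : Module.End F V} (hN : IsReg N) {n : ℕ} (hn : finrank F V = n) :
    N ^ n = 0 ∧ ∃ b : Basis (Fin n) F V, ∀ i : Fin n, N (b i) = if h : i.val + 1 < n then b ⟨i + 1, h⟩ else 0 := by
  obtain ⟨hnil, hr⟩ := hN
  have hn0 : 0 < n := by omega
  have hk : finrank F (LinearMap.ker N) ≤ 1 := by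
    have := LinearMap.finrank_range_add_finrank_ker N
    omega
  have hpow : N ^ n = 0 := by
    have h := hnil.charpoly_eq_X_pow_finrank
    have h2 := LinearMap.aeval_self_charpoly N
    rw [h, map_pow, Polynomial.aeval_X, hn] at h2
    exact h2
  obtain ⟨e, he⟩ : ∃ e, (N ^ (n - 1)) e ≠ 0 := by
    by_contra hh
    push Not at hh
    have h1 := finrank_ker_pow_le hk (n - 1)
    rw [show LinearMap.ker (N ^ (n - 1)) = ⊤ from Submodule.eq_top_iff'.2 fun x => hh x, finrank_top] at h1
    omega
  have hli : LinearIndependent F (fun i : Fin n => (N ^ i.val) e) := by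
    rw [Fintype.linearIndependent_iff]
    intro w hw i
    obtain ⟨i, hi⟩ := i
    induction i using Nat.strong_induction_on with
    | _ i ih =>
      have h := congrArg (N ^ (n - 1 - i)) hw
      rw [map_sum, map_zero, Finset.sum_eq_single (⟨i, hi⟩ : Fin n)] at h
      · rw [map_smul, ← Module.End.mul_apply, ← pow_add, show n - 1 - i + i = n - 1 by omega] at h
        exact (smul_eq_zero.1 h).resolve_right he
      · intro x _ hx
        rcases lt_or_gt_of_ne (fun e' => hx (Fin.ext e')) with h' | h'
        · rw [ih x.val h' x.isLt, zero_smul, map_zero]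
        · have h'' : i < x.val := h'
          rw [map_smul, ← Module.End.mul_apply, ← pow_add, show n - 1 - i + x.val = n + (x.val - i - 1) by omega,
            pow_add, hpow, zero_mul, LinearMap.zero_apply, smul_zero]
      · exact fun h' => absurd (Finset.mem_univ _) h'
  haveI : Nonempty (Fin n) := ⟨⟨0, hn0⟩⟩
  refine ⟨hpow, basisOfLinearIndependentOfCardEqFinrank hli (by rw [Fintype.card_fin, hn]), fun i => ?_⟩
  simp only [coe_basisOfLinearIndependentOfCardEqFinrank]
  rw [← Module.End.mul_apply, ← pow_succ']
  split_ifs with h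
  · rfl
  · rw [show i.val + 1 = n by omega, hpow, LinearMap.zero_apply]

/-- Regular nilpotent maps are conjugate. -/
theorem IsReg.conj {N M : Module.End F V} (hN : IsReg N) (hM : IsReg M) :
    ∃ P P' : Module.End F V, P * P' = 1 ∧ P' * P = 1 ∧ P * N = M * P := by
  obtain ⟨-, b, hb⟩ := hN.exists_basis rfl
  obtain ⟨-, b', hb'⟩ := hM.exists_basis rfl
  let e : V ≃ₗ[F] V := b.equiv b' (Equiv.refl _)
  refine ⟨e.toLinearMap, e.symm.toLinearMap, LinearMap.ext fun x => e.apply_symm_apply x,
    LinearMap.ext fun x => e.symm_apply_apply x, b.ext fun i => ?_⟩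
  have he : ∀ j, e (b j) = b' j := fun j => by simp [e]
  show e (N (b i)) = M (e (b i))
  rw [he, hb, hb']
  split_ifs
  · exact he _
  · exact map_zero e

theorem commEnd_of_fac {a : Module.End F V} {c : V} {r : Module.Dual F V} (h : Fac a c r) : CommEnd a := by
  obtain ⟨X, Y, hX, hY, rfl, -⟩ := h
  obtain ⟨uX, huX⟩ : IsUnit X := by
    have := hX.1.isUnit_one_add
    rwa [add_sub_cancel] at this
  obtain ⟨uY, huY⟩ : IsUnit Y := by
    have := hY.1.isUnit_one_add
    rwa [add_sub_cancel] at this
  set Y' : Module.End F V := ↑uY⁻¹ with hY'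
  have hYY' : Y * Y' = 1 := by rw [← huY, hY', Units.mul_inv]
  have hY'Y : Y' * Y = 1 := by rw [← huY, hY', Units.inv_mul]
  set M := Y - 1 with hM
  have hM' : Y' - 1 = -(Y' * M) := by rw [hM, mul_sub, hY'Y, mul_one]; abel
  have hcomm : Commute Y' M := by
    show Y' * M = M * Y'
    rw [hM, mul_sub, sub_mul, hY'Y, hYY', mul_one, one_mul]
  have hreg : IsReg (Y' - 1) := by
    refine ⟨?_, ?_⟩
    · rw [hM']
      exact (hcomm.isNilpotent_mul_left hY.1).neg
    · rw [hM', LinearMap.range_neg, Module.End.mul_eq_comp, LinearMap.range_comp]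
      have hinj : Function.Injective Y' := fun x y h => by
        have := congrArg Y h
        rwa [← Module.End.mul_apply, ← Module.End.mul_apply, hYY', Module.End.one_apply, Module.End.one_apply]
          at this
      rw [← (Submodule.equivMapOfInjective Y' hinj _).finrank_eq]
      exact hY.2
  obtain ⟨P, P', hPP', hP'P, hP⟩ := hX.conj hreg
  have hPX : P * X = Y' * P := by
    have : P * (X - 1) + P = (Y' - 1) * P + P := by rw [hP]
    rwa [mul_sub, sub_mul, mul_one, one_mul, sub_add_cancel, sub_add_cancel] at this
  set X' : Module.End F V := ↑uX⁻¹ with hX'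
  have hXX' : X * X' = 1 := by rw [← huX, hX', Units.mul_inv]
  refine ⟨X, P, X', P', hXX', hPP', ?_⟩
  have hy : Y' = P * X * P' := by rw [hPX, mul_assoc, hPP', mul_one]
  have : Y = P * X' * P' := by
    calc Y = Y * (Y' * (P * X' * P')) := by
          rw [hy, show P * X * P' * (P * X' * P') = P * X * (P' * P) * X' * P' by simp only [mul_assoc], hP'P,
            mul_one, mul_assoc P X X', hXX', mul_one, hPP', mul_one]
      _ = _ := by rw [← mul_assoc, hYY', one_mul]
  rw [this]
  simp only [mul_assoc]

/-- One step of the factorisation. -/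
theorem fac_step {a : Module.End F V} {v c : V} {f r : Module.Dual F V} (hfv : f v = 1) (hfav : f (a v) = 1)
    (hfc : f c ≠ 0) (hrv : r v ≠ 0) (B : Module.End F (LinearMap.ker f))
    (hB : ∀ y : LinearMap.ker f, (B y : V) = a y - f (a y) • a v) (c₁ : LinearMap.ker f)
    (hc₁ : (c₁ : V) = a v - v) (hfac : Fac B c₁ ((f.comp a).domRestrict (LinearMap.ker f))) : Fac a c r := by
  obtain ⟨X₁, Y₁, hX, hY, hXY, hc, x, hx, hrx⟩ := hfac
  set r₁ := (f.comp a).domRestrict (LinearMap.ker f) with hr₁
  let K := LinearMap.ker f
  have hpm : ∀ z, z - f z • v ∈ LinearMap.ker f := fun z => by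
    rw [LinearMap.mem_ker, map_sub, map_smul, hfv, smul_eq_mul, mul_one, sub_self]
  let p : V →ₗ[F] LinearMap.ker f :=
    { toFun := fun z => ⟨z - f z • v, hpm z⟩
      map_add' := fun x y => Subtype.ext (by simp [map_add, add_smul]; abel)
      map_smul' := fun t x => Subtype.ext (by simp [map_smul, smul_sub, smul_smul]) }
  have hp : ∀ z, (p z : V) = z - f z • v := fun z => rfl
  have hpy : ∀ y : LinearMap.ker f, p y = y := fun y => Subtype.ext (by rw [hp, y.2, zero_smul, sub_zero])
  have hpv : p v = 0 := Subtype.ext (by rw [hp, hfv, one_smul, sub_self]; rfl)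
  have hn : finrank F (LinearMap.ker f) + 1 = finrank F V := by
    have h := LinearMap.finrank_range_add_finrank_ker f
    rw [LinearMap.range_eq_top.2 (LinearMap.surjective (fun h0 => by simp [h0] at hfv)), finrank_top,
      Module.finrank_self] at h
    omega
  let N : Module.End F V :=
    { toFun := fun z => f z • (c₁ : V) + ((X₁ - 1) (p z) : V)
      map_add' := fun x y => by simp only [map_add, add_smul, Submodule.coe_add]; abel
      map_smul' := fun t x => by simp [map_smul, smul_smul, smul_add] }
  let M : Module.End F V :=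
    { toFun := fun z => r₁ (p z) • v + ((Y₁ - 1) (p z) : V)
      map_add' := fun x y => by simp only [map_add, add_smul, Submodule.coe_add]; abel
      map_smul' := fun t x => by simp [map_smul, smul_smul, smul_add] }
  have hN : ∀ z, N z = f z • (c₁ : V) + ((X₁ - 1) (p z) : V) := fun z => rfl
  have hM : ∀ z, M z = r₁ (p z) • v + ((Y₁ - 1) (p z) : V) := fun z => rfl
  refine ⟨1 + N, 1 + M, ?_, ?_, ?_, ?_, ?_⟩
  · rw [add_sub_cancel_left]
    refine ⟨?_, ?_⟩
    · obtain ⟨k, hk⟩ := hX.1
      refine ⟨k + 1, ?_⟩
      have hyk : ∀ (j : ℕ) (y : LinearMap.ker f), (N ^ j) (y : V) = (((X₁ - 1) ^ j) y : V) := by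
        intro j
        induction j with
        | zero => intro y; rfl
        | succ j ih =>
          intro y
          rw [pow_succ, Module.End.mul_apply, hN, y.2, zero_smul, zero_add, hpy, ih, pow_succ, Module.End.mul_apply]
      ext z
      have hz : N z = ((f z • c₁ + (X₁ - 1) (p z) : LinearMap.ker f) : V) := by rw [hN]; rfl
      rw [pow_succ, Module.End.mul_apply, hz, hyk, hk, LinearMap.zero_apply]
      rfl
    · have : LinearMap.range N = LinearMap.ker f := by
        refine le_antisymm ?_ fun y hy => ?_
        · rintro _ ⟨z, rfl⟩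
          rw [hN]
          exact Submodule.add_mem _ (Submodule.smul_mem _ _ c₁.2) (Submodule.coe_mem _)
        · have hlt : LinearMap.range (X₁ - 1) < span F {c₁} ⊔ LinearMap.range (X₁ - 1) :=
            lt_of_le_of_ne le_sup_right fun h =>
              hc (h.symm ▸ Submodule.mem_sup_left (Submodule.mem_span_singleton_self c₁))
          have h1 := Submodule.finrank_lt_finrank_of_lt hlt
          have h2 := hX.2
          have htop : span F {c₁} ⊔ LinearMap.range (X₁ - 1) = ⊤ :=
            Submodule.eq_top_of_finrank_eq (le_antisymm (Submodule.finrank_le _) (by omega))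
          obtain ⟨s, hs, t, ht, hst⟩ := Submodule.mem_sup.1 (htop.symm ▸ Submodule.mem_top :
            (⟨y, hy⟩ : LinearMap.ker f) ∈ span F {c₁} ⊔ LinearMap.range (X₁ - 1))
          obtain ⟨α, rfl⟩ := Submodule.mem_span_singleton.1 hs
          obtain ⟨u, rfl⟩ := ht
          refine ⟨α • v + (u : V), ?_⟩
          rw [hN, map_add, map_add, map_smul, map_smul, hpy, hpv, smul_zero, zero_add, hfv, u.2, add_zero,
            smul_eq_mul, mul_one]
          exact congrArg Subtype.val hst
      rw [this]
      exact hn
  · rw [add_sub_cancel_left]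
    refine ⟨?_, ?_⟩
    · obtain ⟨k, hk⟩ := hY.1
      refine ⟨k + 1, ?_⟩
      have hMv : M v = 0 := by rw [hM, hpv, map_zero, map_zero, zero_smul]; simp
      have hpj : ∀ (j : ℕ) z, p ((M ^ j) z) = ((Y₁ - 1) ^ j) (p z) := by
        intro j
        induction j with
        | zero => intro z; rfl
        | succ j ih =>
          intro z
          rw [pow_succ', Module.End.mul_apply, hM, map_add, map_smul, hpv, smul_zero, zero_add, hpy, ih, pow_succ',
            Module.End.mul_apply]
      ext z
      have hz := hpj k z
      rw [hk, LinearMap.zero_apply] at hz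
      have hz' : (M ^ k) z = f ((M ^ k) z) • v := sub_eq_zero.1 (congrArg Subtype.val hz)
      rw [pow_succ', Module.End.mul_apply, hz', map_smul, hMv, smul_zero, LinearMap.zero_apply]
    · have hker : LinearMap.ker M = span F {v} := by
        refine le_antisymm (fun z hz => ?_) ?_
        · have h1 : p (M z) = (Y₁ - 1) (p z) := by
            rw [hM, map_add, map_smul, hpv, smul_zero, zero_add, hpy]
          rw [LinearMap.mem_ker.1 hz, map_zero] at h1
          have h2 : M z = 0 := hz
          rw [hM, ← h1, Submodule.coe_zero, add_zero, smul_eq_zero] at h2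
          have h3 : r₁ (p z) = 0 := h2.resolve_right fun e => by rw [e, map_zero] at hfv; exact zero_ne_one hfv
          have hline : span F {x} = LinearMap.ker (Y₁ - 1) := by
            refine Submodule.eq_of_le_of_finrank_le (by
              rw [Submodule.span_le, Set.singleton_subset_iff]; exact hx) ?_
            rw [hY.ker, finrank_span_singleton (fun e => hrx (by rw [e, map_zero]))]
          obtain ⟨t, ht⟩ := Submodule.mem_span_singleton.1 (hline.symm ▸ (h1.symm : (Y₁ - 1) (p z) = 0) :
            p z ∈ span F {x})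
          rw [← ht, map_smul, smul_eq_mul, mul_eq_zero] at h3
          have : p z = 0 := by rw [← ht, h3.resolve_right hrx, zero_smul]
          exact Submodule.mem_span_singleton.2 ⟨f z, (sub_eq_zero.1 (congrArg Subtype.val this)).symm⟩
        · rw [Submodule.span_le, Set.singleton_subset_iff]
          show M v = 0
          rw [hM, hpv, map_zero, map_zero, zero_smul]; simp
      have h := LinearMap.finrank_range_add_finrank_ker M
      rw [hker, finrank_span_singleton (fun e => by rw [e, map_zero] at hfv; exact zero_ne_one hfv)] at h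
      exact h
  · ext z
    rw [Module.End.mul_apply]
    set y := p z with hy
    have hz : z = f z • v + (y : V) := by rw [hy, hp]; abel
    have h1 : (1 + M) z = (f z + r₁ y) • v + (Y₁ y : V) := by
      rw [LinearMap.add_apply, Module.End.one_apply, hM, ← hy, LinearMap.sub_apply, Module.End.one_apply,
        AddSubgroupClass.coe_sub]
      nth_rewrite 1 [hz]
      module
    rw [h1, LinearMap.add_apply, Module.End.one_apply, hN, map_add, map_add, map_smul, map_smul, hpv, hpy,
      (Y₁ y).2, hfv, smul_zero, zero_add, smul_eq_mul, mul_one, add_zero, LinearMap.sub_apply, Module.End.one_apply,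
      AddSubgroupClass.coe_sub, ← Module.End.mul_apply X₁ Y₁, ← hXY, hB, hc₁, hr₁]
    nth_rewrite 1 [hz]
    rw [map_add a, map_smul a]
    show _ = (f z + f (a (y : V))) • v + _ + _
    simp only [LinearMap.domRestrict_apply, LinearMap.comp_apply]
    module
  · rw [add_sub_cancel_left]
    rintro ⟨z, hz⟩
    apply hfc
    rw [← hz, hN, map_add, map_smul, c₁.2, ((X₁ - 1) (p z)).2, smul_zero, add_zero]
  · refine ⟨v, ?_, hrv⟩
    rw [add_sub_cancel_left, hM, hpv, map_zero, map_zero, zero_smul]
    simp

end CfsgLib.SLCommutator
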