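import Mathlib

/-!
# Finite check for the elimination step over the field with two elements in dimension three
-/

set_option autoImplicit false

namespace CfsgLib.SLCommutator.Small2

abbrev Z := ZMod 2

/-- Vectors with three entries. -/
abbrev T := Z × Z × Z

/-- Matrices by rows. -/
abbrev M := T × T × T

def bs : List Z := [0, 1]

def ts : List T := bs.flatMap fun a => bs.flatMap fun b => bs.map fun c => (a, b, c)

def dot : T → T → Z := fun (a, b, c) (x, y, z) => a * x + b * y + c * z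

def cross : T → T → T := fun (a, b, c) (x, y, z) => (b * z + c * y, c * x + a * z, a * y + b * x)

def add : T → T → T := fun (a, b, c) (x, y, z) => (a + x, b + y, c + z)

def transpose : M → M := fun ((a, b, c), (d, e, f), (g, h, i)) => ((a, d, g), (b, e, h), (c, f, i))

def mul : M → M → M := fun (p, q, s) B =>
  let (x, y, z) := transpose B
  ((dot p x, dot p y, dot p z), (dot q x, dot q y, dot q z), (dot s x, dot s y, dot s z))

def addM : M → M → M := fun (p, q, s) (x, y, z) => (add p x, add q y, add s z)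

def one : M := ((1, 0, 0), (0, 1, 0), (0, 0, 1))

def zero : M := ((0, 0, 0), (0, 0, 0), (0, 0, 0))

def det : M → Z := fun (p, q, s) => dot p (cross q s)

def rows : M → List T := fun (p, q, s) => [p, q, s]

/-- The regular nilpotent matrices. -/
def regs : List M :=
  [((0, 0, 0), (0, 0, 1), (1, 0, 0)),
   ((0, 0, 0), (0, 1, 1), (1, 1, 1)),
   ((0, 0, 0), (1, 0, 0), (0, 1, 0)),
   ((0, 0, 0), (1, 0, 0), (1, 1, 0)),
   ((0, 0, 0), (1, 0, 1), (1, 0, 0)),
   ((0, 0, 0), (1, 1, 1), (0, 1, 1)),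
   ((0, 0, 1), (0, 0, 0), (0, 1, 0)),
   ((0, 0, 1), (0, 0, 1), (1, 1, 0)),
   ((0, 0, 1), (0, 1, 1), (0, 1, 1)),
   ((0, 0, 1), (1, 0, 0), (0, 0, 0)),
   ((0, 0, 1), (1, 0, 1), (0, 0, 0)),
   ((0, 0, 1), (1, 1, 0), (1, 1, 1)),
   ((0, 1, 0), (0, 0, 0), (1, 0, 0)),
   ((0, 1, 0), (0, 0, 0), (1, 1, 0)),
   ((0, 1, 0), (0, 0, 1), (0, 0, 0)),
   ((0, 1, 0), (0, 1, 1), (0, 1, 1)),
   ((0, 1, 0), (1, 0, 1), (0, 1, 0)),
   ((0, 1, 0), (1, 1, 1), (1, 0, 1)),
   ((0, 1, 1), (0, 0, 0), (0, 1, 0)),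
   ((0, 1, 1), (0, 0, 1), (0, 0, 0)),
   ((0, 1, 1), (0, 1, 1), (1, 0, 1)),
   ((0, 1, 1), (1, 0, 0), (1, 0, 0)),
   ((0, 1, 1), (1, 1, 0), (0, 1, 1)),
   ((0, 1, 1), (1, 1, 1), (1, 1, 1)),
   ((1, 0, 1), (0, 0, 0), (1, 1, 1)),
   ((1, 0, 1), (0, 0, 1), (1, 0, 1)),
   ((1, 0, 1), (1, 0, 0), (1, 0, 1)),
   ((1, 0, 1), (1, 0, 1), (0, 1, 1)),
   ((1, 0, 1), (1, 1, 0), (1, 1, 0)),
   ((1, 0, 1), (1, 1, 1), (0, 1, 0)),
   ((1, 1, 0), (0, 0, 1), (1, 1, 1)),
   ((1, 1, 0), (0, 1, 1), (1, 1, 0)),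
   ((1, 1, 0), (1, 0, 1), (1, 0, 1)),
   ((1, 1, 0), (1, 1, 0), (0, 1, 0)),
   ((1, 1, 0), (1, 1, 0), (1, 0, 0)),
   ((1, 1, 0), (1, 1, 1), (0, 0, 0)),
   ((1, 1, 1), (0, 0, 0), (1, 0, 1)),
   ((1, 1, 1), (0, 1, 1), (1, 0, 0)),
   ((1, 1, 1), (1, 0, 0), (0, 1, 1)),
   ((1, 1, 1), (1, 0, 1), (1, 1, 1)),
   ((1, 1, 1), (1, 1, 0), (0, 0, 0)),
   ((1, 1, 1), (1, 1, 1), (1, 1, 0))]

theorem regs_spec : (regs.all fun N => mul (mul N N) N == zero && mul N N != zero) = true := by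
  decide +kernel

/-- `A - 1` has rank one. -/
def rankOne : M → Bool := fun A =>
  let N := addM A one
  N != zero && (rows N).all fun u => (rows N).all fun v => cross u v == (0, 0, 0)

def good (A : M) : Bool :=
  let cands := regs.flatMap fun N =>
    let X' := addM one (addM N (mul N N))
    let P := addM (mul X' A) one
    let P2 := mul P P
    if P2 != zero && mul P2 P == zero then [(mul N N, transpose P2)] else []
  ts.all fun c => c == (0, 0, 0) || ts.all fun r => r == (0, 0, 0) ||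
    cands.any fun x => (rows x.1).any (fun h => dot h c != 0) && (rows x.2).any fun l => dot r l != 0

theorem all_good : (ts.all fun p => ts.all fun q => ts.all fun s =>
    det (p, q, s) == 0 || rankOne (p, q, s) || good (p, q, s)) = true := by
  decide +kernel

end CfsgLib.SLCommutator.Small2
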