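import Cfsg.Agent.SLCommutator.Select2
import Cfsg.Agent.SLCommutator.Small2Check
import Cfsg.Agent.SLCommutator.Regular
import Cfsg.Agent.SLCommutator.Basic

/-!
# Commutators in `GL_n(2)`, `n ≥ 3`
-/

set_option autoImplicit false

namespace CfsgLib.SLCommutator

open Matrix Module Submodule

universe u

section transfer

variable {F V W : Type*} [Field F] [AddCommGroup V] [Module F V] [AddCommGroup W] [Module F W]

theorem IsReg.of_equiv {N : Module.End F V} {N' : Module.End F W} (e : V ≃ₗ[F] W)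
    (he : ∀ x, N' (e x) = e (N x)) (h : IsReg N') : IsReg N := by
  obtain ⟨⟨k, hk⟩, hr⟩ := h
  have hpow : ∀ (j : ℕ) x, (N' ^ j) (e x) = e ((N ^ j) x) := by
    intro j
    induction j with
    | zero => intro x; rfl
    | succ j ih => intro x; rw [pow_succ', Module.End.mul_apply, ih, he, pow_succ', Module.End.mul_apply]
  refine ⟨⟨k, LinearMap.ext fun x => e.injective ?_⟩, ?_⟩
  · rw [← hpow, hk, LinearMap.zero_apply, LinearMap.zero_apply, map_zero]
  · have : LinearMap.range N' = (LinearMap.range N).map e.toLinearMap := by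
      ext y
      constructor
      · rintro ⟨z, rfl⟩
        refine ⟨N (e.symm z), ⟨_, rfl⟩, ?_⟩
        show e (N (e.symm z)) = N' z
        rw [← he, LinearEquiv.apply_symm_apply]
      · rintro ⟨_, ⟨z, rfl⟩, rfl⟩
        exact ⟨e z, he z⟩
    rw [this, LinearEquiv.finrank_map_eq, ← e.finrank_eq] at hr
    exact hr

theorem Fac.of_equiv {a : Module.End F V} {a' : Module.End F W} {c : V} {r : Module.Dual F V}
    {c' : W} {r' : Module.Dual F W} (e : V ≃ₗ[F] W) (he : ∀ x, a' (e x) = e (a x)) (hc : e c = c')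
    (hr : ∀ x, r' (e x) = r x) (h : Fac a' c' r') : Fac a c r := by
  obtain ⟨X', Y', hX, hY, hXY, hcr, z, hz, hrz⟩ := h
  refine ⟨e.symm.conj X', e.symm.conj Y', hX.of_equiv e ?_, hY.of_equiv e ?_, ?_, ?_, e.symm z, ?_, ?_⟩
  · intro x; simp [LinearEquiv.conj_apply]
  · intro x; simp [LinearEquiv.conj_apply]
  · ext x
    apply e.injective
    rw [← he, hXY]
    simp [LinearEquiv.conj_apply]
  · rintro ⟨x, hx⟩
    refine hcr ⟨e x, ?_⟩
    rw [← hc, ← hx]
    simp [LinearEquiv.conj_apply]
  · have h0 : Y' z = z := sub_eq_zero.1 (by simpa using hz)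
    simp [LinearEquiv.conj_apply, h0]
  · rw [← hr, LinearEquiv.apply_symm_apply]; exact hrz

end transfer

namespace Small2

def vec (t : T) : Fin 3 → Z := ![t.1, t.2.1, t.2.2]

def mat (A : M) : Matrix (Fin 3) (Fin 3) Z := Matrix.of ![vec A.1, vec A.2.1, vec A.2.2]

def ofVec (v : Fin 3 → Z) : T := (v 0, v 1, v 2)

theorem vec_ofVec (v : Fin 3 → Z) : vec (ofVec v) = v := by
  funext i; fin_cases i <;> rfl

theorem vec_inj {a b : T} (h : vec a = vec b) : a = b :=
  Prod.ext (congrFun h 0) (Prod.ext (congrFun h 1) (congrFun h 2))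

theorem dot_vec (a b : T) : vec a ⬝ᵥ vec b = dot a b := by
  simp [vec, dot, dotProduct, Fin.sum_univ_three]

theorem mat_inj {A B : M} (h : mat A = mat B) : A = B :=
  Prod.ext (vec_inj (congrFun h 0)) (Prod.ext (vec_inj (congrFun h 1)) (vec_inj (congrFun h 2)))

theorem mat_mul (A B : M) : mat (mul A B) = mat A * mat B := by
  ext i j
  fin_cases i <;> fin_cases j <;> simp [mat, vec, mul, transpose, dot, Matrix.mul_apply, Fin.sum_univ_three]

theorem mat_add (A B : M) : mat (addM A B) = mat A + mat B := by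
  ext i j
  fin_cases i <;> fin_cases j <;> simp [mat, vec, addM, add]

theorem mat_one : mat one = 1 := by
  ext i j
  fin_cases i <;> fin_cases j <;> rfl

theorem mat_zero : mat zero = 0 := by
  ext i j
  fin_cases i <;> fin_cases j <;> rfl

theorem mat_transpose (A : M) : mat (transpose A) = (mat A)ᵀ := by
  ext i j
  fin_cases i <;> fin_cases j <;> rfl

theorem mem_ts (t : T) : t ∈ ts := by
  revert t; decide

theorem rankOne_spec : (ts.all fun p => ts.all fun q => ts.all fun s => !rankOne (p, q, s) ||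
    ts.any fun w => ts.any fun φ => addM (p, q, s) one ==
      ((w.1 * φ.1, w.1 * φ.2.1, w.1 * φ.2.2), (w.2.1 * φ.1, w.2.1 * φ.2.1, w.2.1 * φ.2.2),
        (w.2.2 * φ.1, w.2.2 * φ.2.1, w.2.2 * φ.2.2))) = true := by
  decide +kernel

theorem two_eq : (2 : Z) = 0 := by decide

theorem sub_eq_add_mat (A B : Matrix (Fin 3) (Fin 3) Z) : A - B = A + B := by
  ext i j
  rw [Matrix.sub_apply, Matrix.add_apply]
  linear_combination -(B i j) * two_eq

theorem exists_row {A : M} {h : T} (hh : h ∈ rows A) : ∃ i, vec h = (mat A) i := by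
  simp only [rows, List.mem_cons, List.not_mem_nil, or_false] at hh
  rcases hh with rfl | rfl | rfl
  exacts [⟨0, rfl⟩, ⟨1, rfl⟩, ⟨2, rfl⟩]

theorem isReg_mat {N : M} (h3 : mul (mul N N) N = zero) (h2 : mul N N ≠ zero) :
    IsReg (Matrix.mulVecLin (mat N) : Module.End Z (Fin 3 → Z)) := by
  set L : Module.End Z (Fin 3 → Z) := Matrix.mulVecLin (mat N) with hL
  have hLa : ∀ x, L x = mat N *ᵥ x := fun x => rfl
  have hL3 : ∀ x, L (L (L x)) = 0 := fun x => by
    rw [hLa, hLa, hLa, mulVec_mulVec, mulVec_mulVec, ← mat_mul, ← mat_mul]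
    have : mul N (mul N N) = zero := by
      apply mat_inj
      rw [mat_mul, mat_mul, ← Matrix.mul_assoc, ← mat_mul, ← mat_mul, h3]
    rw [h3, mat_zero, zero_mulVec]
  obtain ⟨x, hx⟩ : ∃ x, L (L x) ≠ 0 := by
    by_contra hh
    push Not at hh
    apply h2
    apply mat_inj
    rw [mat_mul, mat_zero]
    refine Matrix.ext_iff_mulVec.2 fun x => ?_
    rw [← mulVec_mulVec, zero_mulVec]
    exact hh x
  refine ⟨⟨3, LinearMap.ext fun x => hL3 x⟩, ?_⟩
  have h1 : LinearMap.range L < ⊤ := lt_top_iff_ne_top.2 fun e => hx (by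
    obtain ⟨y, hy⟩ := LinearMap.range_eq_top.1 e x
    rw [← hy]
    exact hL3 y)
  have h1' := Submodule.finrank_lt h1.ne
  have h2' : (LinearMap.range L).map L < LinearMap.range L := lt_of_le_of_ne LinearMap.map_le_range fun e => by
    have hm : L x ∈ (LinearMap.range L).map L := e.symm ▸ (⟨x, rfl⟩ : L x ∈ LinearMap.range L)
    obtain ⟨_, ⟨y, rfl⟩, hy⟩ := hm
    exact hx (by rw [← hy]; exact hL3 y)
  have h2'' := Submodule.finrank_lt_finrank_of_lt h2'
  have h3' : 0 < finrank Z ((LinearMap.range L).map L) := by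
    rw [Nat.pos_iff_ne_zero, ne_eq, Submodule.finrank_eq_zero]
    intro e
    exact hx ((Submodule.eq_bot_iff _).1 e _ ⟨L x, ⟨x, rfl⟩, rfl⟩)
  rw [Module.finrank_pi, Fintype.card_fin] at h1' ⊢
  omega

theorem fac_coord (A : M) (hdet : det A ≠ 0) (hr1 : rankOne A = false) {c r : T} (hc : c ≠ (0, 0, 0))
    (hr : r ≠ (0, 0, 0)) :
    Fac (Matrix.mulVecLin (mat A) : Module.End Z (Fin 3 → Z)) (vec c)
      ({ toFun := fun x => vec r ⬝ᵥ x, map_add' := fun x y => dotProduct_add _ x y,
         map_smul' := fun t x => by simp [dotProduct_smul] } : Module.Dual Z (Fin 3 → Z)) := by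
  obtain ⟨p, q, s⟩ := A
  have h := List.all_eq_true.1 (List.all_eq_true.1 (List.all_eq_true.1 all_good p (mem_ts p)) q (mem_ts q)) s
    (mem_ts s)
  simp only [Bool.or_eq_true, beq_iff_eq, hr1, Bool.false_eq_true, or_false] at h
  have hgood : good (p, q, s) = true := h.resolve_left hdet
  simp only [good, List.all_eq_true, Bool.or_eq_true, beq_iff_eq] at hgood
  have hgood := ((hgood c (mem_ts c)).resolve_left hc r (mem_ts r)).resolve_left hr
  simp only [List.any_eq_true, List.mem_flatMap, Bool.and_eq_true, bne_iff_ne, ne_eq] at hgood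
  obtain ⟨x, ⟨N, hN, hx⟩, ⟨h', hh, hhc⟩, l, hl, hrl⟩ := hgood
  split at hx
  case isFalse => exact absurd hx (List.not_mem_nil)
  next hP =>
  rw [List.mem_singleton] at hx
  subst hx
  simp only [Bool.and_eq_true, bne_iff_ne, ne_eq, beq_iff_eq] at hP
  set A : M := (p, q, s)
  have hNs := List.all_eq_true.1 regs_spec N hN
  simp only [Bool.and_eq_true, beq_iff_eq, bne_iff_ne, ne_eq] at hNs
  set P := addM (mul (addM one (addM N (mul N N))) A) one with hPdef
  obtain ⟨hP2, hP3⟩ := hP
  have hN3 : mat N * mat N * mat N = 0 := by rw [← mat_mul, ← mat_mul, hNs.1, mat_zero]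
  have hPmat : mat P = (1 + (mat N + mat N * mat N)) * mat A - 1 := by
    rw [hPdef, mat_add, mat_mul, mat_add, mat_add, mat_mul, mat_one, sub_eq_add_mat]
  have hXY : (1 + mat N) * ((1 + (mat N + mat N * mat N)) * mat A) = mat A := by
    have h20 : (2 : Z) • (mat N + mat N * mat N) = 0 := by rw [two_eq, zero_smul]
    have : (1 + mat N) * (1 + (mat N + mat N * mat N)) = 1 := by
      rw [add_mul, one_mul, mul_add, mul_one, mul_add, ← Matrix.mul_assoc, hN3, add_zero]
      linear_combination (norm := module) h20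
    rw [← Matrix.mul_assoc, this, Matrix.one_mul]
  refine ⟨Matrix.mulVecLin (1 + mat N), Matrix.mulVecLin ((1 + (mat N + mat N * mat N)) * mat A), ?_, ?_, ?_,
    ?_, vec l, ?_, ?_⟩
  · rw [show Matrix.mulVecLin (1 + mat N) - 1 = Matrix.mulVecLin (mat N) from LinearMap.ext fun x => by
      show (1 + mat N) *ᵥ x - x = mat N *ᵥ x
      rw [add_mulVec, one_mulVec]; abel]
    exact isReg_mat hNs.1 hNs.2
  · rw [show Matrix.mulVecLin ((1 + (mat N + mat N * mat N)) * mat A) - 1 = Matrix.mulVecLin (mat P) from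
      LinearMap.ext fun x => by
        show ((1 + (mat N + mat N * mat N)) * mat A) *ᵥ x - x = mat P *ᵥ x
        rw [hPmat, sub_mulVec, one_mulVec]]
    exact isReg_mat hP3 hP2
  · rw [Module.End.mul_eq_comp, ← Matrix.mulVecLin_mul, hXY]
  · rintro ⟨y, hy⟩
    obtain ⟨i, hi⟩ := exists_row hh
    apply hhc
    have hy' : mat N *ᵥ y = vec c := by
      rw [← hy]
      show _ = (1 + mat N) *ᵥ y - y
      rw [add_mulVec, one_mulVec]; abel
    rw [← dot_vec, hi, ← hy']
    show ((mat (mul N N)) *ᵥ (mat N *ᵥ y)) i = 0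
    rw [mulVec_mulVec, mat_mul, hN3, zero_mulVec]
    rfl
  · obtain ⟨i, hi⟩ := exists_row hl
    rw [mat_transpose] at hi
    show ((1 + (mat N + mat N * mat N)) * mat A) *ᵥ vec l - vec l = 0
    have h1 : mat P *ᵥ vec l = 0 := by
      funext k
      have hk := congrFun (congrFun (congrArg mat hP3) k) i
      rw [mat_mul, mat_zero] at hk
      have h4 : mat P * mat (mul P P) = mat (mul P P) * mat P := by rw [mat_mul, Matrix.mul_assoc]
      rw [← h4] at hk
      rw [hi]
      exact hk
    rw [hPmat, sub_mulVec, one_mulVec] at h1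
    exact h1
  · show vec r ⬝ᵥ vec l ≠ 0
    rw [dot_vec]; exact hrl

end Small2

variable {V : Type u} [AddCommGroup V] [Module (ZMod 2) V] [Module.Finite (ZMod 2) V]

theorem fac_three (hV : finrank (ZMod 2) V = 3) (a : Module.End (ZMod 2) V) (hinj : Function.Injective a)
    (hrk : finrank (ZMod 2) (LinearMap.range (a - 1)) ≠ 1) {c : V} {r : Module.Dual (ZMod 2) V}
    (hc : c ≠ 0) (hr : r ≠ 0) : Fac a c r := by
  obtain ⟨e⟩ : Nonempty (V ≃ₗ[ZMod 2] (Fin 3 → ZMod 2)) :=
    FiniteDimensional.nonempty_linearEquiv_of_finrank_eq (by rw [hV, Module.finrank_pi, Fintype.card_fin])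
  set A := LinearMap.toMatrix' (e.conj a) with hA
  set T : Small2.M := (Small2.ofVec (A 0), Small2.ofVec (A 1), Small2.ofVec (A 2))
  have hmat : Small2.mat T = A := by
    ext i j; fin_cases i <;> fin_cases j <;> rfl
  have happ : ∀ x, Small2.mat T *ᵥ (e x) = e (a x) := fun x => by
    rw [hmat, hA, LinearMap.toMatrix'_mulVec]; simp [LinearEquiv.conj_apply]
  have hdet : Small2.det T ≠ 0 := by
    intro h
    have hd : (Small2.mat T).det = 0 := by
      rw [← h, Matrix.det_fin_three]
      simp only [Small2.mat, Small2.vec, Small2.det, Small2.dot, Small2.cross, Matrix.of_apply, Matrix.cons_val',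
        Matrix.cons_val_zero, Matrix.cons_val_one, Matrix.cons_val, Matrix.empty_val', Matrix.cons_val_fin_one]
      have h20 : (2 : Small2.Z) = 0 := Small2.two_eq
      linear_combination -(T.1.1 * T.2.1.2.2 * T.2.2.2.1 + T.1.2.1 * T.2.1.1 * T.2.2.2.2 +
        T.1.2.2 * T.2.1.2.1 * T.2.2.1) * h20
    obtain ⟨y, hy, hy0⟩ := Matrix.exists_mulVec_eq_zero_iff.2 hd
    rw [← e.apply_symm_apply y, happ, LinearEquiv.map_eq_zero_iff] at hy0
    have h3 : e.symm y = 0 := hinj (by rw [hy0, map_zero])
    exact hy (by simpa using congrArg e h3)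
  have hone : Small2.rankOne T = false := by
    by_contra hh
    rw [Bool.not_eq_false] at hh
    obtain ⟨p, q, s⟩ := T
    have h := List.all_eq_true.1 (List.all_eq_true.1 (List.all_eq_true.1 Small2.rankOne_spec p
      (Small2.mem_ts p)) q (Small2.mem_ts q)) s (Small2.mem_ts s)
    simp only [hh, Bool.not_true, Bool.false_or, List.any_eq_true, beq_iff_eq] at h
    obtain ⟨w, -, φ, -, hw⟩ := h
    have hne : Small2.addM (p, q, s) Small2.one ≠ Small2.zero := by
      simp only [Small2.rankOne, Bool.and_eq_true, bne_iff_ne, ne_eq] at hh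
      exact hh.1
    have hD : ∀ x, e ((a - 1) x) = Small2.mat (Small2.addM (p, q, s) Small2.one) *ᵥ (e x) := fun x => by
      rw [Small2.mat_add, Small2.mat_one, ← Small2.sub_eq_add_mat, sub_mulVec, one_mulVec, happ]
      simp
    have hrange : ∀ x, (a - 1) x ∈ span (ZMod 2) {e.symm (Small2.vec w)} := fun x => by
      refine Submodule.mem_span_singleton.2 ⟨Small2.vec φ ⬝ᵥ e x, e.injective ?_⟩
      rw [map_smul, LinearEquiv.apply_symm_apply, hD, hw]
      funext i
      fin_cases i <;>
        simp [Small2.mat, Small2.vec, Matrix.mulVec, dotProduct, Fin.sum_univ_three] <;> ring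
    apply hrk
    refine le_antisymm ((Submodule.finrank_mono (by rintro _ ⟨x, rfl⟩; exact hrange x)).trans
      ((finrank_span_le_card _).trans (by simp))) ?_
    rw [Nat.one_le_iff_ne_zero, ne_eq, Submodule.finrank_eq_zero, LinearMap.range_eq_bot]
    intro h0
    apply hne
    apply Small2.mat_inj
    rw [Small2.mat_zero]
    refine Matrix.ext_iff_mulVec.2 fun x => ?_
    rw [← e.apply_symm_apply x, ← hD, h0, LinearMap.zero_apply, map_zero, zero_mulVec]
  have hc' : Small2.ofVec (e c) ≠ (0, 0, 0) := fun h => hc (by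
    apply e.injective
    rw [map_zero, ← Small2.vec_ofVec (e c), h]
    funext i; fin_cases i <;> rfl)
  set rv : Fin 3 → ZMod 2 := fun i => r (e.symm (Pi.single i 1)) with hrv
  have hrdot : ∀ x, rv ⬝ᵥ x = r (e.symm x) := fun x => by
    conv_rhs => rw [← Finset.univ_sum_single x, map_sum, map_sum]
    simp only [dotProduct, hrv]
    refine Finset.sum_congr rfl fun i _ => ?_
    rw [show (Pi.single i (x i) : Fin 3 → ZMod 2) = x i • Pi.single i 1 by rw [← Pi.single_smul]; simp, map_smul,
      map_smul]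
    simp [mul_comm]
  have hr' : Small2.ofVec rv ≠ (0, 0, 0) := fun h => hr (LinearMap.ext fun x => by
    have h0 : rv = 0 := by
      rw [← Small2.vec_ofVec rv, h]
      funext i; fin_cases i <;> rfl
    rw [← e.symm_apply_apply x, ← hrdot, h0, zero_dotProduct, LinearMap.zero_apply])
  refine (Small2.fac_coord T hdet hone hc' hr').of_equiv e happ (Small2.vec_ofVec _).symm fun x => ?_
  show Small2.vec (Small2.ofVec rv) ⬝ᵥ e x = r x
  rw [Small2.vec_ofVec, hrdot, LinearEquiv.symm_apply_apply]

omit [Module.Finite (ZMod 2) V] in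
theorem fac_induct : ∀ (m : ℕ) {V : Type u} [AddCommGroup V] [Module (ZMod 2) V] [Module.Finite (ZMod 2) V],
    finrank (ZMod 2) V = m + 3 → ∀ (a : Module.End (ZMod 2) V), Function.Injective a →
      (m = 0 → finrank (ZMod 2) (LinearMap.range (a - 1)) ≠ 1) →
      (0 < m → 3 ≤ finrank (ZMod 2) (LinearMap.range (a - 1))) →
      ∀ {c : V} {r : Module.Dual (ZMod 2) V}, c ≠ 0 → r ≠ 0 → Fac a c r := by
  intro m
  induction m with
  | zero => intro V _ _ _ hV a hinj h0 _ c r hc hr; exact fac_three hV a hinj (h0 rfl) hc hr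
  | succ m ih =>
    intro V _ _ _ hV a hinj _ h1 c r hc hr
    obtain ⟨v, f, hfv, hfav, hfc, hrv, hav, hfa, hdim⟩ :=
      exists_step_two (n := m + 4) (Nat.card_zmod 2) (by omega) (by rw [hV]) a hinj (h1 (by omega)) hc hr
    let Pr : V →ₗ[ZMod 2] V :=
      { toFun := fun z => z - f z • a v
        map_add' := fun x y => by simp only [map_add, add_smul]; abel
        map_smul' := fun t x => by simp [map_smul, smul_sub, smul_smul] }
    have hPr : ∀ z, Pr z = z - f z • a v := fun z => rfl
    have hmem : ∀ y : LinearMap.ker f, a (y : V) - f (a (y : V)) • a v ∈ LinearMap.ker f := fun y => by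
      rw [LinearMap.mem_ker, map_sub, map_smul, hfav, smul_eq_mul, mul_one, sub_self]
    let B : Module.End (ZMod 2) (LinearMap.ker f) :=
      { toFun := fun y => ⟨_, hmem y⟩
        map_add' := fun x y => Subtype.ext (by simp [map_add, add_smul]; abel)
        map_smul' := fun t x => Subtype.ext (by simp [map_smul, smul_sub, smul_smul]) }
    have hB : ∀ y, (B y : V) = a y - f (a y) • a v := fun y => rfl
    let c₁ : LinearMap.ker f := ⟨a v - v, by rw [LinearMap.mem_ker, map_sub, hfav, hfv, sub_self]⟩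
    refine fac_step hfv hfav hfc hrv B hB c₁ rfl ?_
    have hK : finrank (ZMod 2) (LinearMap.ker f) = m + 3 := by
      have h := LinearMap.finrank_range_add_finrank_ker f
      rw [LinearMap.range_eq_top.2 (LinearMap.surjective (fun h0 => by simp [h0] at hfv)), finrank_top,
        Module.finrank_self] at h
      omega
    have hBinj : Function.Injective B := by
      rw [← LinearMap.ker_eq_bot, LinearMap.ker_eq_bot']
      intro y hy
      have h2 : a (y : V) = f (a (y : V)) • a v := sub_eq_zero.1 (congrArg Subtype.val hy)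
      rw [← map_smul] at h2
      have h3 := hinj h2
      have h4 := congrArg f h3
      rw [map_smul, hfv, smul_eq_mul, mul_one, y.2] at h4
      rw [← h4, zero_smul] at h3
      exact Subtype.ext h3
    set S := (LinearMap.ker f).map (a - 1) with hS
    have hrange : (LinearMap.range (B - 1)).map (LinearMap.ker f).subtype = S.map Pr := by
      have hy : ∀ y : LinearMap.ker f, ((B - 1) y : V) = Pr ((a - 1) (y : V)) := fun y => by
        rw [LinearMap.sub_apply, Module.End.one_apply, AddSubgroupClass.coe_sub, hB, hPr, LinearMap.sub_apply,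
          Module.End.one_apply, map_sub f, y.2, sub_zero]
        abel
      ext z
      constructor
      · rintro ⟨_, ⟨y, rfl⟩, rfl⟩
        exact ⟨_, ⟨y, y.2, rfl⟩, (hy y).symm⟩
      · rintro ⟨_, ⟨y, hy', rfl⟩, rfl⟩
        exact ⟨_, ⟨⟨y, hy'⟩, rfl⟩, hy ⟨y, hy'⟩⟩
    have hrk : finrank (ZMod 2) (LinearMap.range (B - 1)) = finrank (ZMod 2) (S.map Pr) := by
      rw [← hrange, Submodule.finrank_map_subtype_eq]
    have hsp : ∀ z, Pr z = 0 → z ∈ span (ZMod 2) {a v} := fun z hz =>
      Submodule.mem_span_singleton.2 ⟨f z, (sub_eq_zero.1 hz).symm⟩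
    have hlow : finrank (ZMod 2) S ≤ finrank (ZMod 2) (S.map Pr) + 1 := by
      have h := LinearMap.finrank_range_add_finrank_ker (Pr.domRestrict S)
      have h2 : LinearMap.range (Pr.domRestrict S) = S.map Pr := LinearMap.range_domRestrict ..
      rw [h2] at h
      have h3 : finrank (ZMod 2) (LinearMap.ker (Pr.domRestrict S)) ≤ 1 := by
        rw [← Submodule.finrank_map_subtype_eq]
        refine le_trans (Submodule.finrank_mono ?_) ((finrank_span_le_card ({a v} : Set V)).trans (by simp))
        rintro _ ⟨y, hy, rfl⟩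
        exact hsp _ hy
      omega
    refine ih hK B hBinj (fun hm => ?_) (fun hm => ?_) ?_ ?_
    · rw [hrk]
      rcases hdim with h | h | ⟨h, -⟩ <;> omega
    · rw [hrk]
      rcases hdim with h | h | ⟨h, h'⟩
      · omega
      · omega
      · have hnot := h'.resolve_left (by omega)
        have hinjS : LinearMap.ker (Pr.domRestrict S) = ⊥ := by
          rw [eq_bot_iff]
          intro y hy
          obtain ⟨t, ht⟩ := Submodule.mem_span_singleton.1 (hsp _ hy)
          rcases eq_or_ne t 0 with rfl | ht0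
          · rw [zero_smul] at ht; exact Subtype.ext ht.symm
          · exfalso
            apply hnot
            have ht' : t • a v = (y : V) := ht
            have := S.smul_mem t⁻¹ y.2
            rwa [← ht', smul_smul, inv_mul_cancel₀ ht0, one_smul] at this
        have h2 := LinearMap.finrank_range_add_finrank_ker (Pr.domRestrict S)
        rw [hinjS, finrank_bot, LinearMap.range_domRestrict] at h2
        omega
    · exact fun h0 => hav (sub_eq_zero.1 (congrArg Subtype.val h0))
    · intro h0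
      apply hfa
      refine LinearMap.ext fun z => ?_
      have h2 := LinearMap.congr_fun h0 ⟨z - f z • v, by
        rw [LinearMap.mem_ker, map_sub, map_smul, hfv, smul_eq_mul, mul_one, sub_self]⟩
      simp only [LinearMap.domRestrict_apply, LinearMap.comp_apply, LinearMap.zero_apply, map_sub, map_smul,
        hfav, smul_eq_mul, mul_one, sub_eq_zero] at h2
      exact h2

/-- A commutator after splitting off fixed points. -/
theorem commEnd_split (a : Module.End (ZMod 2) V) (W : Submodule (ZMod 2) V)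
    (hW : LinearMap.range (a - 1) ≤ W) (hsup : W ⊔ LinearMap.ker (a - 1) = ⊤)
    (h : ∀ haW : ∀ x ∈ W, a x ∈ W, CommEnd (a.restrict haW)) : CommEnd a := by
  have haW : ∀ x ∈ W, a x ∈ W := fun x hx => by
    rw [show a x = (a - 1) x + x by simp]
    exact W.add_mem (hW ⟨x, rfl⟩) hx
  obtain ⟨U, hU⟩ := Submodule.exists_isCompl (Submodule.comap (LinearMap.ker (a - 1)).subtype W)
  set U' := U.map (LinearMap.ker (a - 1)).subtype
  have hc : IsCompl W U' := by
    constructor
    · rw [Submodule.disjoint_def]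
      rintro _ hx ⟨u, hu, rfl⟩
      have : u ∈ Submodule.comap (LinearMap.ker (a - 1)).subtype W ⊓ U := ⟨hx, hu⟩
      rw [hU.inf_eq_bot] at this
      rw [(Submodule.mem_bot _).1 this, map_zero]
    · rw [codisjoint_iff, eq_top_iff]
      intro z _
      obtain ⟨w, hw, k, hk, rfl⟩ := Submodule.mem_sup.1 (hsup.symm ▸ Submodule.mem_top : z ∈ W ⊔ _)
      obtain ⟨p, hp, q, hq, hpq⟩ := Submodule.mem_sup.1 (hU.sup_eq_top.symm ▸ Submodule.mem_top :
        (⟨k, hk⟩ : LinearMap.ker (a - 1)) ∈ Submodule.comap (LinearMap.ker (a - 1)).subtype W ⊔ U)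
      have hk' : (p : V) + (q : V) = k := congrArg Subtype.val hpq
      rw [← hk', ← add_assoc]
      exact Submodule.add_mem_sup (W.add_mem hw hp) ⟨q, hq, rfl⟩
  refine CommEnd.of_equiv (Submodule.prodEquivOfIsCompl W U' hc) ?_ ((h haW).prod_one (W := U'))
  rintro ⟨w, ⟨u, hu⟩⟩
  obtain ⟨u, -, rfl⟩ := hu
  have hu0 : a (u : V) = u := sub_eq_zero.1 (show (a - 1) (u : V) = 0 from u.2)
  simp [hu0]

theorem commEnd_two (hV : 3 ≤ finrank (ZMod 2) V) (a : Module.End (ZMod 2) V) (hinj : Function.Injective a)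
    (hrk : 2 ≤ finrank (ZMod 2) (LinearMap.range (a - 1))) : CommEnd a := by
  obtain ⟨c, hc⟩ : ∃ c : V, c ≠ 0 := by
    by_contra hh
    push Not at hh
    haveI : Subsingleton V := ⟨fun x y => (hh x).trans (hh y).symm⟩
    rw [Module.finrank_zero_of_subsingleton] at hV
    omega
  obtain ⟨r, hr, -⟩ := Submodule.exists_dual_map_eq_bot_of_notMem (p := (⊥ : Submodule (ZMod 2) V)) (x := c)
    (fun h => hc ((Submodule.mem_bot _).1 h)) inferInstance
  have hr0 : r ≠ 0 := fun h => hr (by rw [h, LinearMap.zero_apply])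
  set D := a - 1 with hD
  rcases Nat.lt_or_ge 2 (finrank (ZMod 2) (LinearMap.range D)) with h3 | h3
  · obtain ⟨m, hm⟩ : ∃ m, finrank (ZMod 2) V = m + 3 := ⟨_, (Nat.sub_add_cancel hV).symm⟩
    refine commEnd_of_fac (fac_induct m hm a hinj (fun _ => ?_) (fun _ => h3) hc hr0)
    rw [← hD]; omega
  have hr2 : finrank (ZMod 2) (LinearMap.range D) = 2 := by omega
  by_cases hV3 : finrank (ZMod 2) V = 3
  · refine commEnd_of_fac (fac_three hV3 a hinj ?_ hc hr0)
    rw [← hD]; omega
  have hkD := LinearMap.finrank_range_add_finrank_ker D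
  set I := LinearMap.range D ⊓ LinearMap.ker D
  by_cases hI : LinearMap.range D ≤ LinearMap.ker D
  · -- two Jordan blocks of size two
    let b := Module.finBasisOfFinrankEq (ZMod 2) (LinearMap.range D) hr2
    obtain ⟨x₁, hx₁⟩ := (b 0).2
    obtain ⟨x₂, hx₂⟩ := (b 1).2
    let S : (Fin 4 → ZMod 2) →ₗ[ZMod 2] V := Fintype.linearCombination (ZMod 2) ![D x₁, x₁, D x₂, x₂]
    have hSa : ∀ w, S w = w 0 • D x₁ + w 1 • x₁ + w 2 • D x₂ + w 3 • x₂ := fun w => by
      simp [S, Fintype.linearCombination_apply, Fin.sum_univ_four]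
    have hDD : ∀ x, D (D x) = 0 := fun x => hI ⟨x, rfl⟩
    have hind : ∀ s t : ZMod 2, s • D x₁ + t • D x₂ = 0 → s = 0 ∧ t = 0 := by
      intro s t h0
      have h1 : s • b 0 + t • b 1 = 0 := Subtype.ext (by simpa [hx₁, hx₂] using h0)
      have h5 := Fintype.linearIndependent_iff.1 b.linearIndependent ![s, t] (by simpa [Fin.sum_univ_two] using h1)
      exact ⟨h5 0, h5 1⟩
    have hSinj : Function.Injective S := by
      rw [← LinearMap.ker_eq_bot, LinearMap.ker_eq_bot']
      intro w hw
      rw [hSa] at hw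
      have h1 := congrArg D hw
      simp only [map_add, map_smul, hDD, smul_zero, zero_add, add_zero, map_zero] at h1
      obtain ⟨e1, e3⟩ := hind _ _ h1
      rw [e1, e3, zero_smul, zero_smul, add_zero, add_zero] at hw
      obtain ⟨e0, e2⟩ := hind _ _ hw
      funext i; fin_cases i <;> assumption
    refine commEnd_split a (LinearMap.range S) ?_ ?_ fun haW => ?_
    · rintro _ ⟨x, rfl⟩
      have hx := b.sum_repr ⟨D x, ⟨x, rfl⟩⟩
      rw [Fin.sum_univ_two] at hx
      refine ⟨![b.repr ⟨D x, ⟨x, rfl⟩⟩ 0, 0, b.repr ⟨D x, ⟨x, rfl⟩⟩ 1, 0], ?_⟩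
      rw [hSa]
      simp only [Matrix.cons_val_zero, Matrix.cons_val_one, Matrix.cons_val, zero_smul, add_zero]
      rw [hx₁, hx₂]
      exact congrArg Subtype.val hx
    · rw [eq_top_iff]
      intro z _
      have hx := congrArg Subtype.val (b.sum_repr ⟨D z, ⟨z, rfl⟩⟩)
      rw [Fin.sum_univ_two] at hx
      set s := b.repr ⟨D z, ⟨z, rfl⟩⟩ 0
      set t := b.repr ⟨D z, ⟨z, rfl⟩⟩ 1
      rw [← sub_add_cancel z (s • x₁ + t • x₂), add_comm]
      refine Submodule.add_mem_sup ⟨![0, s, 0, t], by rw [hSa]; simp⟩ ?_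
      rw [LinearMap.mem_ker, ← hD, map_sub, map_add, map_smul, map_smul, sub_eq_zero]
      simpa [hx₁, hx₂] using hx.symm
    · let e : (Fin 4 → ZMod 2) ≃ₗ[ZMod 2] LinearMap.range S := LinearEquiv.ofInjective S hSinj
      refine CommEnd.of_equiv e
        (g := Matrix.mulVecLin !![1, 1, 0, 0; 0, 1, 0, 0; 0, 0, 1, 1; 0, 0, 0, 1]) ?_ ?_
      · intro w
        apply Subtype.ext
        show a (S w) = S _
        have hax : ∀ x, a x = D x + x := fun x => by simp [hD]
        rw [hax, hSa, hSa]
        simp only [map_add, map_smul, hDD, smul_zero, zero_add, add_zero]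
        simp [Matrix.mulVec, dotProduct, Fin.sum_univ_four]
        module
      · refine ⟨Matrix.mulVecLin !![0, 0, 0, 1; 0, 0, 1, 0; 1, 0, 0, 0; 0, 1, 0, 0],
          Matrix.mulVecLin !![0, 0, 1, 1; 0, 0, 0, 1; 0, 1, 0, 0; 1, 0, 0, 0],
          Matrix.mulVecLin !![0, 0, 1, 0; 0, 0, 0, 1; 0, 1, 0, 0; 1, 0, 0, 0],
          Matrix.mulVecLin !![0, 0, 0, 1; 0, 0, 1, 0; 1, 1, 0, 0; 0, 1, 0, 0], ?_, ?_, ?_⟩ <;>
        · simp only [Module.End.mul_eq_comp, ← Matrix.mulVecLin_mul, Module.End.one_eq_id, ← Matrix.mulVecLin_one]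
          congr 1
          decide +kernel
  · -- a three-dimensional invariant summand
    have hIle : finrank (ZMod 2) I ≤ 1 := by
      have hlt : I < LinearMap.range D := lt_of_le_of_ne inf_le_left fun h => hI (h ▸ inf_le_right)
      have := Submodule.finrank_lt_finrank_of_lt hlt
      omega
    have hIle' : finrank (ZMod 2) ↥(LinearMap.range D ⊓ LinearMap.ker D) ≤ 1 := hIle
    have hsum := Submodule.finrank_sup_add_finrank_inf_eq (LinearMap.range D) (LinearMap.ker D)
    obtain ⟨z, hz, hzsup⟩ : ∃ z, z ∉ LinearMap.range D ∧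
        (LinearMap.range D ⊔ span (ZMod 2) {z}) ⊔ LinearMap.ker D = ⊤ := by
      by_cases htop : LinearMap.range D ⊔ LinearMap.ker D = ⊤
      · obtain ⟨z, hz⟩ : ∃ z, z ∉ LinearMap.range D := by
          by_contra hh
          push Not at hh
          rw [Submodule.eq_top_iff'.2 hh, finrank_top] at hr2
          omega
        exact ⟨z, hz, by rw [sup_right_comm, htop, top_sup_eq]⟩
      · obtain ⟨z, hz⟩ : ∃ z, z ∉ LinearMap.range D ⊔ LinearMap.ker D := by
          by_contra hh
          push Not at hh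
          exact htop (Submodule.eq_top_iff'.2 hh)
        refine ⟨z, fun h => hz (Submodule.mem_sup_left h), ?_⟩
        rw [sup_right_comm]
        refine Submodule.eq_top_of_finrank_eq (le_antisymm (Submodule.finrank_le _) ?_)
        have := Submodule.finrank_lt_finrank_of_lt (show LinearMap.range D ⊔ LinearMap.ker D <
          LinearMap.range D ⊔ LinearMap.ker D ⊔ span (ZMod 2) {z} from lt_of_le_of_ne le_sup_left fun h =>
            hz (h.symm ▸ Submodule.mem_sup_right (Submodule.mem_span_singleton_self z)))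
        omega
    set W := LinearMap.range D ⊔ span (ZMod 2) {z} with hWdef
    have hW3 : finrank (ZMod 2) W = 3 := by
      refine le_antisymm ((Submodule.finrank_add_le_finrank_add_finrank _ _).trans ?_) ?_
      · have : finrank (ZMod 2) (span (ZMod 2) ({z} : Set V)) ≤ 1 := (finrank_span_le_card _).trans (by simp)
        omega
      · have := Submodule.finrank_lt_finrank_of_lt (show LinearMap.range D < W from lt_of_le_of_ne le_sup_left
          fun h => hz (h.symm ▸ Submodule.mem_sup_right (Submodule.mem_span_singleton_self z)))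
        omega
    refine commEnd_split a W le_sup_left hzsup fun haW => ?_
    haveI : Nontrivial W := Module.nontrivial_of_finrank_pos (R := ZMod 2) (by omega)
    obtain ⟨c', hc'⟩ := exists_ne (0 : W)
    obtain ⟨r', hr', -⟩ := Submodule.exists_dual_map_eq_bot_of_notMem (p := (⊥ : Submodule (ZMod 2) W))
      (x := c') (fun h => hc' ((Submodule.mem_bot _).1 h)) inferInstance
    refine commEnd_of_fac (fac_three hW3 _ (fun x y h => Subtype.ext (hinj (congrArg Subtype.val h))) ?_ hc'
      (fun h => hr' (by rw [h, LinearMap.zero_apply]) : r' ≠ 0))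
    have heq : (LinearMap.range (a.restrict haW - 1)).map W.subtype = LinearMap.range D := by
      ext y
      constructor
      · rintro ⟨_, ⟨x, rfl⟩, rfl⟩
        exact ⟨x, rfl⟩
      · rintro ⟨x, rfl⟩
        obtain ⟨w, hw, k, hk, rfl⟩ := Submodule.mem_sup.1 (hzsup.symm ▸ Submodule.mem_top : x ∈ W ⊔ _)
        exact ⟨_, ⟨⟨w, hw⟩, rfl⟩, by rw [map_add, show D k = 0 from hk, add_zero]; rfl⟩
    rw [← Submodule.finrank_map_subtype_eq, heq]
    omega

theorem isComm_two {n : ℕ} (hn : 3 ≤ n) (g : Matrix (Fin n) (Fin n) (ZMod 2)) (hg : g.det = 1) : IsComm g := by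
  by_cases hsm : SourourProduct.Small (g - 1)
  · obtain ⟨m, rfl⟩ : ∃ m, n = m + 3 := ⟨n - 3, by omega⟩
    exact isComm_transvection hg hsm
  have hinj : Function.Injective (Matrix.mulVecLin g) := by
    rw [← LinearMap.ker_eq_bot, LinearMap.ker_eq_bot']
    exact fun x hx => Matrix.eq_zero_of_mulVec_eq_zero (by rw [hg]; exact one_ne_zero) hx
  have hrk : 2 ≤ finrank (ZMod 2) (LinearMap.range (Matrix.mulVecLin g - 1)) := by
    by_contra hlt
    push Not at hlt
    obtain ⟨w, hw⟩ := (Submodule.finrank_le_one_iff_isPrincipal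
      (LinearMap.range (Matrix.mulVecLin g - 1))).1 (by omega)
    have : ∀ i : Fin n, ∃ s : ZMod 2, s • w = (g - 1) *ᵥ Pi.single i 1 := fun i => by
      refine Submodule.mem_span_singleton.1 ?_
      rw [← hw]
      exact ⟨Pi.single i 1, by show g *ᵥ _ - Pi.single i 1 = _; rw [sub_mulVec, one_mulVec]⟩
    choose s hs using this
    refine hsm ⟨w, s, ?_⟩
    ext i k
    have hk := congrFun (hs k) i
    rw [mulVec_single_one] at hk
    simp only [Pi.smul_apply, smul_eq_mul, Matrix.col_apply] at hk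
    rw [vecMulVec_apply, mul_comm]
    exact hk.symm
  obtain ⟨a, b, a', b', ha, hb, hab⟩ := commEnd_two (by rw [Module.finrank_pi, Fintype.card_fin]; exact hn)
    (Matrix.mulVecLin g) hinj hrk
  have hZ : ∀ x : ZMod 2, x ≠ 0 → x = 1 := by decide
  have hdet : ∀ x x' : Module.End (ZMod 2) (Fin n → ZMod 2), x * x' = 1 → (LinearMap.toMatrix' x).det = 1 := by
    intro x x' h
    refine hZ _ fun h0 => one_ne_zero (α := ZMod 2) ?_
    have h2 := congrArg (fun y => (LinearMap.toMatrix' y).det) h
    simpa [Module.End.mul_eq_comp, LinearMap.toMatrix'_comp, h0] using h2.symm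
  have haa : a' * a = 1 := mul_eq_one_comm.1 ha
  have hbb : b' * b = 1 := mul_eq_one_comm.1 hb
  refine isComm_of_eq (hdet a a' ha) (hdet b b' hb) ?_
  apply (Matrix.toLin').injective
  rw [Matrix.toLin'_mul, Matrix.toLin'_mul, Matrix.toLin'_mul, Matrix.toLin'_toMatrix', Matrix.toLin'_toMatrix',
    Matrix.toLin'_apply', ← Module.End.mul_eq_comp, ← Module.End.mul_eq_comp, ← Module.End.mul_eq_comp, hab]
  calc a * b * a' * b' * (b * a) = a * b * a' * (b' * b) * a := by simp only [mul_assoc]
    _ = a * b * (a' * a) := by rw [hbb, mul_one, mul_assoc]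
    _ = a * b := by rw [haa, mul_one]

end CfsgLib.SLCommutator
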