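import Mathlib

/-!
# Counting lemmas over finite fields
-/

set_option autoImplicit false

namespace CfsgLib.SLCommutator

variable {F V U : Type*} [Field F] [Finite F] [AddCommGroup V] [Module F V] [AddCommGroup U] [Module F U]
  [Module.Finite F V]

theorem card_subtype_of_surjective (W : Submodule F V) (Ψ : W →ₗ[F] U) (hΨ : Function.Surjective Ψ)
    (P : U → Prop) : Nat.card {x : W // P (Ψ x)} * Nat.card U = Nat.card {u : U // P u} * Nat.card W := by
  obtain ⟨s, hs⟩ := Ψ.exists_rightInverse_of_surjective (LinearMap.range_eq_top.2 hΨ)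
  have hs' : ∀ u, Ψ (s u) = u := fun u => by rw [← LinearMap.comp_apply, hs, LinearMap.id_apply]
  let e : W ≃ LinearMap.ker Ψ × U :=
    { toFun := fun x => (⟨x - s (Ψ x), by simp [hs']⟩, Ψ x)
      invFun := fun p => (p.1 : W) + s p.2
      left_inv := fun x => by simp
      right_inv := fun p => by
        obtain ⟨⟨y, hy⟩, u⟩ := p
        simp only [LinearMap.mem_ker] at hy
        ext <;> simp [hs', hy] }
  let e' : {x : W // P (Ψ x)} ≃ LinearMap.ker Ψ × {u : U // P u} :=
    (e.subtypeEquiv (q := fun p => P p.2) fun _ => Iff.rfl).trans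
      { toFun := fun p => (p.1.1, ⟨p.1.2, p.2⟩)
        invFun := fun p => ⟨(p.1, p.2.1), p.2.2⟩
        left_inv := fun _ => rfl
        right_inv := fun _ => rfl }
  rw [Nat.card_congr e', Nat.card_congr e, Nat.card_prod, Nat.card_prod]
  ring

/-- Members of a submodule off the kernel of a functional. -/
theorem card_off_le (W : Submodule F V) (φ : Module.Dual F V) :
    Nat.card {x : V // x ∈ W ∧ φ x ≠ 0} * Nat.card F ≤ (Nat.card F - 1) * Nat.card W := by
  haveI : Finite V := Module.finite_of_finite F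
  by_cases h : φ.comp W.subtype = 0
  · have : IsEmpty {x : V // x ∈ W ∧ φ x ≠ 0} :=
      ⟨fun ⟨x, hx, hne⟩ => hne (LinearMap.congr_fun h ⟨x, hx⟩)⟩
    simp
  · have key := card_subtype_of_surjective W (φ.comp W.subtype) (LinearMap.surjective h) (fun u => u ≠ 0)
    have he : Nat.card {x : W // φ.comp W.subtype x ≠ 0} = Nat.card {x : V // x ∈ W ∧ φ x ≠ 0} :=
      Nat.card_congr (Equiv.subtypeSubtypeEquivSubtypeInter (fun x => x ∈ W) (fun x => φ x ≠ 0))
    have hF : Nat.card {u : F // u ≠ 0} = Nat.card F - 1 := by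
      haveI := Fintype.ofFinite F
      classical
      rw [Nat.card_eq_fintype_card, Nat.card_eq_fintype_card, Fintype.card_subtype_compl,
        Fintype.card_subtype_eq]
    rw [he, hF] at key
    exact key.le

theorem card_off_eq {φ : Module.Dual F V} (hφ : φ ≠ 0) :
    Nat.card {x : V // φ x ≠ 0} * Nat.card F = (Nat.card F - 1) * Nat.card V := by
  haveI : Finite V := Module.finite_of_finite F
  haveI := Fintype.ofFinite F
  classical
  have key := card_subtype_of_surjective (⊤ : Submodule F V) (φ.comp (⊤ : Submodule F V).subtype)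
    ((LinearMap.surjective hφ).comp fun x => ⟨⟨x, Submodule.mem_top⟩, rfl⟩) (fun u => u ≠ 0)
  have he : Nat.card {x : (⊤ : Submodule F V) // φ.comp (⊤ : Submodule F V).subtype x ≠ 0} =
      Nat.card {x : V // φ x ≠ 0} :=
    Nat.card_congr (Submodule.topEquiv.toEquiv.subtypeEquiv fun _ => Iff.rfl)
  have hF : Nat.card {u : F // u ≠ 0} = Nat.card F - 1 := by
    rw [Nat.card_eq_fintype_card, Nat.card_eq_fintype_card, Fintype.card_subtype_compl,
      Fintype.card_subtype_eq]
  rw [he, hF, Nat.card_congr Submodule.topEquiv.toEquiv] at key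
  exact key

theorem card_submodule (W : Submodule F V) : Nat.card W = Nat.card F ^ Module.finrank F W :=
  Module.natCard_eq_pow_finrank (K := F) (V := W)

/-- Avoiding submodules off a hyperplane. -/
theorem exists_avoid (φ : Module.Dual F V) (hφ : φ ≠ 0) (Ws : List (Submodule F V))
    (h : (Ws.map fun (W : Submodule F V) => Nat.card F ^ Module.finrank F W).sum < Nat.card F ^ Module.finrank F V) :
    ∃ x, φ x ≠ 0 ∧ ∀ W ∈ Ws, x ∉ W := by
  classical
  haveI : Finite V := Module.finite_of_finite F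
  haveI := Fintype.ofFinite V
  by_contra hcon
  push Not at hcon
  have hq : 1 < Nat.card F := Finite.one_lt_card
  have hsub : ∀ L : List (Submodule F V),
      Nat.card {x : V // φ x ≠ 0 ∧ ∃ W ∈ L, x ∈ W} * Nat.card F ≤
        (Nat.card F - 1) * (L.map fun (W : Submodule F V) => Nat.card F ^ Module.finrank F W).sum := by
    intro L
    induction L with
    | nil =>
      have : IsEmpty {x : V // φ x ≠ 0 ∧ ∃ W ∈ ([] : List (Submodule F V)), x ∈ W} :=
        ⟨fun ⟨x, _, W, hW, _⟩ => absurd hW (List.not_mem_nil)⟩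
      simp
    | cons W L ih =>
      have h1 : Nat.card {x : V // φ x ≠ 0 ∧ ∃ W' ∈ W :: L, x ∈ W'} ≤
          Nat.card {x : V // x ∈ W ∧ φ x ≠ 0} + Nat.card {x : V // φ x ≠ 0 ∧ ∃ W' ∈ L, x ∈ W'} := by
        rw [Nat.card_eq_fintype_card, Nat.card_eq_fintype_card, Nat.card_eq_fintype_card,
          Fintype.card_subtype, Fintype.card_subtype, Fintype.card_subtype]
        refine le_trans (Finset.card_le_card ?_) (Finset.card_union_le _ _)
        intro x hx
        simp only [Finset.mem_filter, Finset.mem_univ, true_and, Finset.mem_union, List.mem_cons] at hx ⊢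
        obtain ⟨hx1, W', rfl | hW', hxW⟩ := hx
        · exact Or.inl ⟨hxW, hx1⟩
        · exact Or.inr ⟨hx1, W', hW', hxW⟩
      have h2 := card_off_le W φ
      rw [card_submodule] at h2
      rw [List.map_cons, List.sum_cons, mul_add]
      calc _ ≤ _ := Nat.mul_le_mul_right _ h1
        _ ≤ _ := by rw [add_mul]; exact Nat.add_le_add h2 ih
  have hall : Nat.card {x : V // φ x ≠ 0 ∧ ∃ W ∈ Ws, x ∈ W} = Nat.card {x : V // φ x ≠ 0} :=
    Nat.card_congr (Equiv.subtypeEquivRight fun x => ⟨fun hx => hx.1, fun hx => ⟨hx, hcon x hx⟩⟩)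
  have h3 := hsub Ws
  rw [hall, card_off_eq hφ, Module.natCard_eq_pow_finrank (K := F) (V := V)] at h3
  exact absurd (Nat.le_of_mul_le_mul_left h3 (by omega)) (not_le.2 h)

/-- Members of a submodule off the kernels of two functionals. -/
theorem card_off_two (W : Submodule F V) (φ ρ : Module.Dual F V)
    (hW : (∀ x ∈ W, ρ x = 0) ∨ ∃ x ∈ W, ρ x = 0 ∧ φ x ≠ 0) :
    Nat.card {x : V // x ∈ W ∧ φ x ≠ 0 ∧ ρ x ≠ 0} * Nat.card F ^ 2 ≤ (Nat.card F - 1) ^ 2 * Nat.card W := by
  haveI : Finite V := Module.finite_of_finite F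
  haveI := Fintype.ofFinite F
  classical
  by_cases hz : ∀ x ∈ W, ρ x = 0
  · have : IsEmpty {x : V // x ∈ W ∧ φ x ≠ 0 ∧ ρ x ≠ 0} := ⟨fun ⟨x, hx, _, hne⟩ => hne (hz x hx)⟩
    simp
  obtain ⟨a, ha, haρ, haφ⟩ := hW.resolve_left hz
  push Not at hz
  obtain ⟨b, hb, hbρ⟩ := hz
  let Ψ : W →ₗ[F] F × F := (φ.comp W.subtype).prod (ρ.comp W.subtype)
  have hsurj : Function.Surjective Ψ := by
    rintro ⟨s, t⟩
    refine ⟨((s - t / ρ b * φ b) / φ a) • ⟨a, ha⟩ + (t / ρ b) • ⟨b, hb⟩, ?_⟩
    ext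
    · simp [Ψ, div_mul_cancel₀ _ haφ]
    · simp [Ψ, haρ, div_mul_cancel₀ _ hbρ]
  have key := card_subtype_of_surjective W Ψ hsurj (fun u => u.1 ≠ 0 ∧ u.2 ≠ 0)
  have he : Nat.card {x : W // (Ψ x).1 ≠ 0 ∧ (Ψ x).2 ≠ 0} = Nat.card {x : V // x ∈ W ∧ φ x ≠ 0 ∧ ρ x ≠ 0} :=
    Nat.card_congr (Equiv.subtypeSubtypeEquivSubtypeInter (fun x => x ∈ W) (fun x => φ x ≠ 0 ∧ ρ x ≠ 0))
  have hF : Nat.card {u : F // u ≠ 0} = Nat.card F - 1 := by
    rw [Nat.card_eq_fintype_card, Nat.card_eq_fintype_card, Fintype.card_subtype_compl,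
      Fintype.card_subtype_eq]
  have h2 : Nat.card {u : F × F // u.1 ≠ 0 ∧ u.2 ≠ 0} = (Nat.card F - 1) ^ 2 := by
    rw [Nat.card_congr (Equiv.subtypeProdEquivProd (p := fun a : F => a ≠ 0) (q := fun b : F => b ≠ 0)),
      Nat.card_prod, hF, sq]
  rw [he, h2, Nat.card_prod, ← sq] at key
  exact key.le

end CfsgLib.SLCommutator
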