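import Cfsg.Agent.SLCommutator.Counting

/-!
# The elimination step over the field with three elements, in dimension at least four
-/

set_option autoImplicit false

namespace CfsgLib.SLCommutator

open Module Submodule

variable {F V : Type*} [Field F] [AddCommGroup V] [Module F V] [Module.Finite F V]

theorem finrank_comap_le {W : Type*} [AddCommGroup W] [Module F W] [Module.Finite F W] (f : V →ₗ[F] W)
    (p : Submodule F W) : finrank F (p.comap f) ≤ finrank F (LinearMap.ker f) + finrank F p := by
  set g := f.domRestrict (p.comap f) with hg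
  have h := LinearMap.finrank_range_add_finrank_ker g
  have h1 : finrank F (LinearMap.range g) ≤ finrank F p := Submodule.finrank_mono (by
    rintro _ ⟨x, rfl⟩; exact x.2)
  have h2 : finrank F (LinearMap.ker g) ≤ finrank F (LinearMap.ker f) := by
    rw [← Submodule.finrank_map_subtype_eq]
    refine Submodule.finrank_mono ?_
    rintro _ ⟨x, hx, rfl⟩
    exact hx
  omega

/-- Annihilator of a kernel. -/
theorem finrank_ann_ker (g : V →ₗ[F] V) :
    finrank F (LinearMap.ker g).dualAnnihilator = finrank F (LinearMap.range g) := by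
  have h1 := Subspace.finrank_add_finrank_dualAnnihilator_eq (LinearMap.ker g)
  have h2 := LinearMap.finrank_range_add_finrank_ker g
  omega

theorem finrank_span_pair_le (x y : V) : finrank F (span F ({x, y} : Set V)) ≤ 2 := by
  classical
  refine (finrank_span_le_card _).trans ?_
  simp only [Set.toFinset_insert, Set.toFinset_singleton]
  exact (Finset.card_insert_le _ _).trans (by simp)

theorem mem_span_pair_of_forall {f : Module.Dual F V} {g : V →ₗ[F] V} {p : Submodule F V} {z : V}
    (hz : g z = 0) (hfz : f z ≠ 0) (h : ∀ x, f x = 0 → g x ∈ p) : LinearMap.range g ≤ p := by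
  rintro _ ⟨y, rfl⟩
  have := h (y - (f y / f z) • z) (by simp [div_mul_cancel₀ _ hfz])
  simpa [hz] using this

theorem finrank_congr {p q : Submodule F V} (h : p = q) : finrank F p = finrank F q := by rw [h]

variable [Finite F]

/-- A step over `F₃`. -/
theorem exists_step_three (h3 : Nat.card F = 3) {n : ℕ} (hn : 4 ≤ n) (hV : finrank F V = n) (a : V →ₗ[F] V)
    (hinj : Function.Injective a) (hrk : 2 ≤ finrank F (LinearMap.range (a - 1)))
    (hns : a + 1 ≠ 0) {c : V} {r : Module.Dual F V} (hc : c ≠ 0) (hr : r ≠ 0) :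
    ∃ (v : V) (f : Module.Dual F V), f v = 1 ∧ f (a v) = 1 ∧ f c ≠ 0 ∧ r v ≠ 0 ∧ a v ≠ v ∧ f.comp a ≠ f ∧
      (∀ w, ∃ x, f x = 0 ∧ ∀ s t : F, a x - x ≠ s • a v + t • w) ∧
      (Odd n → ∃ x, f x = 0 ∧ ∀ s : F, a x + x ≠ s • a v) := by
  classical
  haveI : Finite V := Module.finite_of_finite F
  haveI := Fintype.ofFinite F
  have h2 : (2 : F) ≠ 0 := by
    intro h
    have hodd : ringChar F ≠ 2 := fun hc => by
      have := FiniteField.even_card_of_char_two (F := F) hc
      rw [← Nat.card_eq_fintype_card, h3] at this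
      omega
    exact Ring.two_ne_zero hodd h
  set D := a - 1 with hD
  set A1 := a + 1 with hA1
  have hDa : ∀ x, D x = a x - x := fun x => by simp [hD]
  have hA1a : ∀ x, A1 x = a x + x := fun x => by simp [hA1]
  set rk := finrank F (LinearMap.range D) with hrkdef
  set rk1 := finrank F (LinearMap.range A1) with hrk1def
  have hkD : finrank F (LinearMap.ker D) + rk = n := by
    have := LinearMap.finrank_range_add_finrank_ker D; omega
  have hk1 : finrank F (LinearMap.ker A1) + rk1 = n := by
    have := LinearMap.finrank_range_add_finrank_ker A1; omega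
  have hrk1 : 1 ≤ rk1 := by
    by_contra h
    exact hns (LinearMap.range_eq_bot.1 (Submodule.finrank_eq_zero.1 (by omega)))
  have hdisj : finrank F (LinearMap.ker D) + finrank F (LinearMap.ker A1) ≤ n := by
    rw [← hV, ← Submodule.finrank_sup_add_finrank_inf_eq]
    have : LinearMap.ker D ⊓ LinearMap.ker A1 = ⊥ := by
      rw [eq_bot_iff]
      rintro x ⟨h1, h1'⟩
      have e1 : a x - x = 0 := by rw [← hDa]; exact h1
      have e2 : a x + x = 0 := by rw [← hA1a]; exact h1'
      have : (2 : F) • x = 0 := by linear_combination (norm := module) e2 - e1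
      exact (smul_eq_zero.1 this).resolve_left h2
    rw [this, finrank_bot, add_zero]
    exact Submodule.finrank_le _
  -- the functional
  let P1 : Submodule F (Module.Dual F V) := (span F {r}).comap D.dualMap
  let P2 : Submodule F (Module.Dual F V) := LinearMap.ker A1.dualMap
  let P3 : Submodule F (Module.Dual F V) :=
    if rk = 2 then (LinearMap.ker D).dualAnnihilator ⊔ span F {r}
    else if rk < n then (LinearMap.ker D).dualAnnihilator else ⊥
  let P4 : Submodule F (Module.Dual F V) :=
    if Odd n ∧ rk1 ≤ 2 then (LinearMap.ker A1).dualAnnihilator else ⊥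
  have hd : finrank F (Module.Dual F V) = n := by rw [Subspace.dual_finrank_eq, hV]
  have hP1 : finrank F P1 + rk ≤ n + 1 := by
    have h1 := finrank_comap_le D.dualMap (span F {r})
    have h4 := LinearMap.finrank_range_add_finrank_ker D.dualMap
    rw [LinearMap.finrank_range_dualMap_eq_finrank_range] at h4
    rw [finrank_span_singleton hr] at h1
    show finrank F ((span F {r}).comap D.dualMap) + rk ≤ n + 1
    omega
  have hP2 : finrank F P2 + rk1 = n := by
    have h4 := LinearMap.finrank_range_add_finrank_ker A1.dualMap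
    rw [LinearMap.finrank_range_dualMap_eq_finrank_range] at h4
    show finrank F (LinearMap.ker A1.dualMap) + rk1 = n
    omega
  have hP3 : finrank F P3 ≤ (if rk = 2 then 3 else n - 1) := by
    by_cases h : rk = 2
    · rw [if_pos h, finrank_congr (show P3 = (LinearMap.ker D).dualAnnihilator ⊔ span F {r} from if_pos h)]
      refine (Submodule.finrank_add_le_finrank_add_finrank (LinearMap.ker D).dualAnnihilator (span F {r})).trans ?_
      rw [finrank_ann_ker, finrank_span_singleton hr]
      omega
    · rw [if_neg h]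
      by_cases h' : rk < n
      · rw [finrank_congr (show P3 = (LinearMap.ker D).dualAnnihilator from (if_neg h).trans (if_pos h')),
          finrank_ann_ker]
        omega
      · rw [finrank_congr (show P3 = ⊥ from (if_neg h).trans (if_neg h')), finrank_bot]
        omega
  have hP4 : finrank F P4 ≤ (if Odd n then 2 else 0) := by
    by_cases h : Odd n ∧ rk1 ≤ 2
    · rw [finrank_congr (show P4 = (LinearMap.ker A1).dualAnnihilator from if_pos h), if_pos h.1, finrank_ann_ker]
      exact h.2
    · rw [finrank_congr (show P4 = ⊥ from if_neg h), finrank_bot]; exact Nat.zero_le _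
  have hevalc : (Module.Dual.eval F V c : Module.Dual F (Module.Dual F V)) ≠ 0 :=
    fun h => hc ((Module.eval_apply_eq_zero_iff F c).1 h)
  obtain ⟨f, hfc, hf⟩ := exists_avoid (Module.Dual.eval F V c) hevalc [P1, P2, P3, P4] (by
    simp only [List.map_cons, List.map_nil, List.sum_cons, List.sum_nil, add_zero, hd, h3]
    obtain ⟨m, rfl⟩ : ∃ m, n = m + 4 := ⟨n - 4, by omega⟩
    have hm : 1 ≤ 3 ^ m := Nat.one_le_pow _ _ (by norm_num)
    have hm3 : 0 < m → 3 ≤ 3 ^ m := fun h => by
      calc 3 = 3 ^ 1 := by norm_num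
        _ ≤ 3 ^ m := Nat.pow_le_pow_right (by norm_num) h
    have pm : ∀ {x y : ℕ}, x ≤ y → 3 ^ x ≤ 3 ^ y := fun h => Nat.pow_le_pow_right (by norm_num) h
    have e2 : 3 ^ (m + 2) = 9 * 3 ^ m := by ring
    have e3 : 3 ^ (m + 3) = 27 * 3 ^ m := by ring
    have e4 : 3 ^ (m + 4) = 81 * 3 ^ m := by ring
    by_cases h2' : rk = 2
    · rw [if_pos h2'] at hP3
      have a1 := pm (show finrank F P1 ≤ m + 3 by omega)
      have a2 := pm (show finrank F P2 ≤ 2 by omega)
      have a3 := pm hP3
      by_cases ho : Odd (m + 4)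
      · rw [if_pos ho] at hP4
        have a4 := pm hP4
        have := hm3 (Nat.pos_of_ne_zero fun h => by subst h; exact absurd ho (by decide))
        norm_num at a2 a3 a4
        omega
      · rw [if_neg ho] at hP4
        have a4 := pm hP4
        norm_num at a2 a3 a4
        omega
    · rw [if_neg h2'] at hP3
      have a1 := pm (show finrank F P1 ≤ m + 2 by omega)
      have a2 := pm (show finrank F P2 ≤ m + 3 by omega)
      have a3 := pm (show finrank F P3 ≤ m + 3 by omega)
      have a4 := pm (show finrank F P4 ≤ 2 by split_ifs at hP4 <;> omega)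
      norm_num at a4
      omega)
  simp only [List.mem_cons, List.not_mem_nil, or_false, forall_eq_or_imp, forall_eq] at hf
  obtain ⟨hf1, hf2, hf3, hf4⟩ := hf
  change f c ≠ 0 at hfc
  have hfD : ∀ t : F, f.comp D ≠ t • r := fun t h => hf1 (show D.dualMap f ∈ span F {r} from
    Submodule.mem_span_singleton.2 ⟨t, h.symm⟩)
  have hfA : f.comp A1 ≠ 0 := fun h => hf2 (show A1.dualMap f = 0 from h)
  set E := LinearMap.ker (f.comp D) with hE
  have hEdim : finrank F E + 1 = n := by
    have h := LinearMap.finrank_range_add_finrank_ker (f.comp D)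
    have : LinearMap.range (f.comp D) = ⊤ :=
      LinearMap.range_eq_top.2 (LinearMap.surjective (fun h0 => hfD 0 (by rw [zero_smul]; exact h0)))
    rw [this, finrank_top, Module.finrank_self] at h
    rw [hE]
    omega
  -- neither functional vanishes on `E`
  have hprop : ∀ g : Module.Dual F V, (∀ x ∈ E, g x = 0) → ∃ t : F, g = t • f.comp D := by
    intro g hg
    obtain ⟨y, hy⟩ : ∃ y, f.comp D y ≠ 0 := by
      by_contra hh; push Not at hh
      exact hfD 0 (by rw [zero_smul]; exact LinearMap.ext hh)
    refine ⟨g y / f.comp D y, LinearMap.ext fun x => ?_⟩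
    have := hg (x - (f.comp D x / f.comp D y) • y) (by
      rw [hE, LinearMap.mem_ker, map_sub, map_smul, smul_eq_mul, div_mul_cancel₀ _ hy, sub_self])
    rw [map_sub, map_smul, smul_eq_mul, sub_eq_zero] at this
    rw [this, LinearMap.smul_apply, smul_eq_mul]
    field_simp
  have hfE : ∃ x ∈ E, f x ≠ 0 := by
    by_contra hh; push Not at hh
    obtain ⟨t, ht⟩ := hprop f hh
    have hf0 : f ≠ 0 := fun h => hfc (by simp [h])
    have ht0 : t ≠ 0 := fun h => hf0 (by rw [ht, h, zero_smul])
    have h1 : t⁻¹ = 1 ∨ t⁻¹ = -1 := by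
      have := FiniteField.pow_card_sub_one_eq_one t⁻¹ (inv_ne_zero ht0)
      rw [← Nat.card_eq_fintype_card, h3] at this
      exact sq_eq_one_iff.1 this
    have hfd : f.comp D = t⁻¹ • f := by
      conv_rhs => rw [ht]
      rw [smul_smul, inv_mul_cancel₀ ht0, one_smul]
    rcases h1 with h1 | h1
    · refine hfA (LinearMap.ext fun x => ?_)
      have := LinearMap.congr_fun hfd x
      rw [LinearMap.comp_apply, hDa, map_sub, LinearMap.smul_apply, h1, one_smul] at this
      rw [LinearMap.comp_apply, hA1a, map_add, LinearMap.zero_apply]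
      have h30 : (3 : F) = 0 := by
        have hcast : ((Fintype.card F : ℕ) : F) = 0 := FiniteField.cast_card_eq_zero F
        rw [← Nat.card_eq_fintype_card, h3] at hcast
        simpa using hcast
      linear_combination this + f x * h30
    · refine hf0 (LinearMap.ext fun x => ?_)
      obtain ⟨y, rfl⟩ := (LinearMap.injective_iff_surjective.1 hinj) x
      have := LinearMap.congr_fun hfd y
      rw [LinearMap.comp_apply, hDa, map_sub, LinearMap.smul_apply, h1, neg_one_smul] at this
      rw [LinearMap.zero_apply]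
      linear_combination this
  have hrE : ∃ x ∈ E, r x ≠ 0 := by
    by_contra hh; push Not at hh
    obtain ⟨t, ht⟩ := hprop r hh
    have ht0 : t ≠ 0 := fun h => hr (by rw [ht, h, zero_smul])
    exact hfD t⁻¹ (by rw [ht, smul_smul, inv_mul_cancel₀ ht0, one_smul])
  have hlow : 4 * 3 ^ (n - 1) ≤ Nat.card {x : V // x ∈ E ∧ f x ≠ 0 ∧ r x ≠ 0} * 9 := by
    by_cases hx : ∃ x ∈ E, r x = 0 ∧ f x ≠ 0
    · obtain ⟨p, hp, hrp, hfp⟩ := hx
      obtain ⟨q, hq, hrq⟩ := hrE
      let Ψ : E →ₗ[F] F × F := (f.comp E.subtype).prod (r.comp E.subtype)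
      have hsurj : Function.Surjective Ψ := by
        rintro ⟨s, t⟩
        refine ⟨((s - t / r q * f q) / f p) • ⟨p, hp⟩ + (t / r q) • ⟨q, hq⟩, ?_⟩
        ext
        · simp [Ψ, div_mul_cancel₀ _ hfp]
        · simp [Ψ, hrp, div_mul_cancel₀ _ hrq]
      have key := card_subtype_of_surjective E Ψ hsurj (fun u => u.1 ≠ 0 ∧ u.2 ≠ 0)
      have he : Nat.card {x : E // (Ψ x).1 ≠ 0 ∧ (Ψ x).2 ≠ 0} =
          Nat.card {x : V // x ∈ E ∧ f x ≠ 0 ∧ r x ≠ 0} :=
        Nat.card_congr (Equiv.subtypeSubtypeEquivSubtypeInter (fun x => x ∈ E) (fun x => f x ≠ 0 ∧ r x ≠ 0))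
      have h4 : Nat.card {u : F × F // u.1 ≠ 0 ∧ u.2 ≠ 0} = 4 := by
        rw [Nat.card_congr (Equiv.subtypeProdEquivProd (p := fun a : F => a ≠ 0) (q := fun b : F => b ≠ 0)),
          Nat.card_prod, Nat.card_eq_fintype_card, Fintype.card_subtype_compl, Fintype.card_subtype_eq,
          ← Nat.card_eq_fintype_card, h3]
      rw [he, h4, Nat.card_prod, h3, card_submodule, h3, show finrank F E = n - 1 by omega] at key
      omega
    · push Not at hx
      have he : Nat.card {x : V // x ∈ E ∧ f x ≠ 0 ∧ r x ≠ 0} = Nat.card {x : E // f.comp E.subtype x ≠ 0} :=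
        Nat.card_congr
          { toFun := fun x => ⟨⟨x.1, x.2.1⟩, x.2.2.1⟩
            invFun := fun x => ⟨x.1.1, x.1.2, x.2, fun h => x.2 (hx x.1.1 x.1.2 h)⟩
            left_inv := fun _ => rfl
            right_inv := fun _ => rfl }
      obtain ⟨p, hp, hfp⟩ := hfE
      have key := card_subtype_of_surjective E (f.comp E.subtype)
        (LinearMap.surjective (fun h => hfp (LinearMap.congr_fun h ⟨p, hp⟩))) (fun u => u ≠ 0)
      have h4 : Nat.card {u : F // u ≠ 0} = 2 := by
        rw [Nat.card_eq_fintype_card, Fintype.card_subtype_compl, Fintype.card_subtype_eq,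
          ← Nat.card_eq_fintype_card, h3]
      rw [← he, h4, h3, card_submodule, h3, show finrank F E = n - 1 by omega] at key
      omega
  -- the submodules to avoid
  let W1 : Submodule F V := if rk = 2 then LinearMap.range D else ⊥
  let W2 : Submodule F V := if rk1 ≤ 2 ∧ 3 ≤ rk then LinearMap.range A1 else ⊥
  have hW1 : finrank F W1 ≤ 2 ∧ (rk ≠ 2 → finrank F W1 = 0) := by
    by_cases h : rk = 2
    · rw [finrank_congr (show W1 = LinearMap.range D from if_pos h)]
      exact ⟨h.le, fun h' => absurd h h'⟩
    · rw [finrank_congr (show W1 = ⊥ from if_neg h), finrank_bot]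
      exact ⟨Nat.zero_le _, fun _ => rfl⟩
  have hW2 : finrank F W2 ≤ 2 ∧ (rk < 3 → finrank F W2 = 0) := by
    by_cases h : rk1 ≤ 2 ∧ 3 ≤ rk
    · rw [finrank_congr (show W2 = LinearMap.range A1 from if_pos h)]
      exact ⟨h.1, fun h' => absurd h.2 (by omega)⟩
    · rw [finrank_congr (show W2 = ⊥ from if_neg h), finrank_bot]
      exact ⟨Nat.zero_le _, fun _ => rfl⟩
  let N : Submodule F V → ℕ := fun W => Nat.card {x : V // x ∈ W ∧ f x ≠ 0 ∧ r x ≠ 0}
  have hgen : ∀ W : Submodule F V, N W * 9 ≤ 6 * 3 ^ finrank F W := by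
    intro W
    have h1 := card_off_le W f
    have h5 : N W ≤ Nat.card {x : V // x ∈ W ∧ f x ≠ 0} :=
      Nat.card_le_card_of_injective (fun x => ⟨x.1, x.2.1, x.2.2.1⟩) fun x y h => by
        ext; exact congrArg (fun z => z.1) h
    rw [h3, card_submodule, h3] at h1
    omega
  have hker2 : rk = 2 → N (LinearMap.ker D) * 9 ≤ 4 * 3 ^ (n - 2) := by
    intro h
    have hcase : (∀ x ∈ LinearMap.ker D, r x = 0) ∨ ∃ x ∈ LinearMap.ker D, r x = 0 ∧ f x ≠ 0 := by
      by_contra hh
      push Not at hh
      obtain ⟨⟨b, hb, hrb⟩, h'⟩ := hh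
      apply hf3
      simp only [P3]
      rw [if_pos h, Submodule.mem_sup]
      refine ⟨f - (f b / r b) • r, ?_, (f b / r b) • r, Submodule.mem_span_singleton.2 ⟨_, rfl⟩, sub_add_cancel _ _⟩
      rw [Submodule.mem_dualAnnihilator]
      intro x hx
      have := h' (x - (r x / r b) • b) (Submodule.sub_mem _ hx (Submodule.smul_mem _ _ hb))
        (by simp [div_mul_cancel₀ _ hrb])
      rw [map_sub, map_smul, smul_eq_mul] at this
      simp only [LinearMap.sub_apply, LinearMap.smul_apply, smul_eq_mul]
      field_simp at this ⊢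
      linear_combination this
    have h1 := card_off_two (LinearMap.ker D) f r hcase
    rw [h3, card_submodule, h3, show finrank F (LinearMap.ker D) = n - 2 by omega] at h1
    norm_num at h1
    exact h1
  obtain ⟨v, hvE, hfv, hrv, hvD, hvW1, hvW2⟩ :
      ∃ v, v ∈ E ∧ f v ≠ 0 ∧ r v ≠ 0 ∧ D v ≠ 0 ∧ v ∉ W1 ∧ v ∉ W2 := by
    by_contra hh
    push Not at hh
    haveI := Fintype.ofFinite V
    have hle : Nat.card {x : V // x ∈ E ∧ f x ≠ 0 ∧ r x ≠ 0} ≤ N (LinearMap.ker D) + N W1 + N W2 := by
      simp only [N, Nat.card_eq_fintype_card, Fintype.card_subtype]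
      refine le_trans (Finset.card_le_card ?_) (le_trans (Finset.card_union_le _ _)
        (Nat.add_le_add_right (Finset.card_union_le _ _) _))
      intro x hx
      simp only [Finset.mem_filter, Finset.mem_univ, true_and, Finset.mem_union] at hx ⊢
      obtain ⟨hxE, hxf, hxr⟩ := hx
      by_cases h1 : D x = 0
      · exact Or.inl (Or.inl ⟨h1, hxf, hxr⟩)
      · by_cases h2 : x ∈ W1
        · exact Or.inl (Or.inr ⟨h2, hxf, hxr⟩)
        · exact Or.inr ⟨hh x hxE hxf hxr h1 h2, hxf, hxr⟩
    obtain ⟨m, rfl⟩ : ∃ m, n = m + 4 := ⟨n - 4, by omega⟩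
    have hm : 1 ≤ 3 ^ m := Nat.one_le_pow _ _ (by norm_num)
    have e3 : 3 ^ (m + 4 - 1) = 27 * 3 ^ m := by rw [show m + 4 - 1 = m + 3 by omega]; ring
    have pm : ∀ {x y : ℕ}, x ≤ y → 3 ^ x ≤ 3 ^ y := fun h => Nat.pow_le_pow_right (by norm_num) h
    have g1 := hgen W1
    have g2 := hgen W2
    have a1 := pm hW1.1
    have a2 := pm hW2.1
    by_cases h2' : rk = 2
    · have g0 := hker2 h2'
      have e2 : 3 ^ (m + 4 - 2) = 9 * 3 ^ m := by rw [show m + 4 - 2 = m + 2 by omega]; ring
      rw [hW2.2 (by omega)] at g2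
      norm_num at a1 g2
      omega
    · have g0 := hgen (LinearMap.ker D)
      have a0 := pm (show finrank F (LinearMap.ker D) ≤ m + 1 by omega)
      rw [hW1.2 h2'] at g1
      have e1 : 3 ^ (m + 1) = 3 * 3 ^ m := by ring
      norm_num at a2 g1
      omega
  -- normalise
  set v' := (f v)⁻¹ • v with hv'
  have hinv : (f v)⁻¹ ≠ 0 := inv_ne_zero hfv
  have hfv' : f v' = 1 := by rw [hv', map_smul, smul_eq_mul, inv_mul_cancel₀ hfv]
  have hfDv : f (D v') = 0 := by
    rw [hv', map_smul, map_smul, show f (D v) = 0 from hvE, smul_zero]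
  have hDv' : D v' ≠ 0 := by rw [hv', map_smul]; exact smul_ne_zero hinv hvD
  have hfav : f (a v') = 1 := by
    rw [hDa, map_sub, sub_eq_zero] at hfDv
    rw [hfDv, hfv']
  refine ⟨v', f, hfv', hfav, hfc, ?_, fun h => hDv' (by rw [hDa, h, sub_self]), fun h => hfD 0 ?_, ?_, ?_⟩
  · rw [hv', map_smul]; exact mul_ne_zero hinv hrv
  · rw [zero_smul]
    ext x
    rw [LinearMap.comp_apply, hDa, map_sub, ← LinearMap.comp_apply, h, sub_self, LinearMap.zero_apply]
  · intro w
    by_contra hh
    push Not at hh
    have hin : ∀ x, f x = 0 → D x ∈ span F ({a v', w} : Set V) := fun x hx => by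
      obtain ⟨s, t, hst⟩ := hh x hx
      rw [hDa, hst]
      exact Submodule.add_mem _ (Submodule.smul_mem _ _ (subset_span (by simp)))
        (Submodule.smul_mem _ _ (subset_span (by simp)))
    rcases Nat.lt_or_ge rk n with hlt | hge
    · have hz : ∃ z, D z = 0 ∧ f z ≠ 0 := by
        by_contra hz
        push Not at hz
        have hmem : f ∈ (LinearMap.ker D).dualAnnihilator := (Submodule.mem_dualAnnihilator f).2 fun x hx => hz x hx
        apply hf3
        simp only [P3]
        split_ifs with h
        · exact Submodule.mem_sup_left hmem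
        · exact hmem
      obtain ⟨z, hz, hfz⟩ := hz
      have hle := mem_span_pair_of_forall hz hfz hin
      have h5 := finrank_span_pair_le (F := F) (a v') w
      have h6 := Submodule.finrank_mono hle
      rcases Nat.lt_or_ge rk 3 with hrk3 | hrk3
      · have heq : LinearMap.range D = span F ({a v', w} : Set V) :=
          Submodule.eq_of_le_of_finrank_le hle (by omega)
        have hmem : a v' ∈ LinearMap.range D := by rw [heq]; exact subset_span (by simp)
        apply hvW1
        simp only [W1]
        rw [if_pos (by omega)]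
        have : v' ∈ LinearMap.range D := by
          rw [show v' = a v' - D v' by rw [hDa, sub_sub_cancel]]
          exact Submodule.sub_mem _ hmem ⟨v', rfl⟩
        have := Submodule.smul_mem _ (f v) this
        rwa [hv', smul_smul, mul_inv_cancel₀ hfv, one_smul] at this
      · omega
    · have hk0 : LinearMap.ker D = ⊥ := Submodule.finrank_eq_zero.1 (by omega)
      have hle : (LinearMap.ker f).map D ≤ span F ({a v', w} : Set V) := by
        rintro _ ⟨x, hx, rfl⟩; exact hin x hx
      have h5 := finrank_span_pair_le (F := F) (a v') w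
      have h6 := Submodule.finrank_mono hle
      have h7 : finrank F ((LinearMap.ker f).map D) = finrank F (LinearMap.ker f) :=
        (Submodule.equivMapOfInjective D (LinearMap.ker_eq_bot.1 hk0) _).finrank_eq.symm
      have h8 := LinearMap.finrank_range_add_finrank_ker f
      have h9 : finrank F (LinearMap.range f) ≤ 1 := (Submodule.finrank_le _).trans (Module.finrank_self F).le
      omega
  · intro hodd
    by_contra hh
    push Not at hh
    have hv0 : v' ≠ 0 := fun h => by rw [h, map_zero] at hfv'; exact zero_ne_one hfv'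
    have hle : LinearMap.range A1 ≤ span F ({a v', v'} : Set V) := by
      rintro _ ⟨y, rfl⟩
      obtain ⟨s, hs⟩ := hh (y - f y • v') (by rw [map_sub, map_smul, hfv', smul_eq_mul, mul_one, sub_self])
      have e : A1 y = s • a v' + f y • (a v' + v') := by
        rw [hA1a, ← hs, map_sub, map_smul]; module
      rw [e]
      exact Submodule.add_mem _ (Submodule.smul_mem _ _ (subset_span (by simp)))
        (Submodule.smul_mem _ _ (Submodule.add_mem _ (subset_span (by simp)) (subset_span (by simp))))
    have hr1 : rk1 ≤ 2 := (Submodule.finrank_mono hle).trans (finrank_span_pair_le (F := F) _ _)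
    have hr3 : 3 ≤ rk := by
      obtain ⟨j, rfl⟩ := hodd
      omega
    have hvR : v' ∉ LinearMap.range A1 := fun h => hvW2 (by
      simp only [W2]
      rw [if_pos ⟨hr1, hr3⟩]
      have := Submodule.smul_mem _ (f v) h
      rwa [hv', smul_smul, mul_inv_cancel₀ hfv, one_smul] at this)
    have hlt : LinearMap.range A1 < span F ({a v', v'} : Set V) :=
      lt_of_le_of_ne hle fun h => hvR (by rw [h]; exact subset_span (by simp))
    have h1' : rk1 ≤ 1 := by
      have := Submodule.finrank_lt_finrank_of_lt hlt
      have := finrank_span_pair_le (F := F) (a v') v'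
      omega
    have hu : A1 v' ≠ 0 := fun h => h2 (by
      have := congrArg f h
      rw [hA1a, map_add, hfav, hfv', map_zero] at this
      rw [← this]; norm_num)
    have heq : span F {A1 v'} = LinearMap.range A1 := Submodule.eq_of_le_of_finrank_le
      (by rw [Submodule.span_le, Set.singleton_subset_iff]; exact ⟨v', rfl⟩)
      (by rw [finrank_span_singleton hu]; exact h1')
    have hzero : ∀ x, f x = 0 → A1 x = 0 := by
      intro x hx
      obtain ⟨s, hs⟩ := hh x hx
      obtain ⟨t, ht⟩ := Submodule.mem_span_singleton.1 ((SetLike.ext_iff.1 heq (A1 x)).2 ⟨x, rfl⟩)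
      have he : t • a v' + t • v' = s • a v' := by rw [← smul_add, ← hA1a, ht, hA1a, hs]
      have hst : t + t = s := by
        have := congrArg f he
        simpa [hfav, hfv'] using this
      rw [← hst] at he
      have : t • (v' - a v') = 0 := by linear_combination (norm := module) he
      rcases smul_eq_zero.1 this with h | h
      · rw [← ht, h, zero_smul]
      · exact absurd (by rw [hDa, ← sub_eq_zero.1 h, sub_self]) hDv'
    apply hf4
    simp only [P4]
    rw [if_pos ⟨hodd, hr1⟩, Submodule.mem_dualAnnihilator]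
    intro x hx
    have h := hzero (x - f x • v') (by rw [map_sub, map_smul, hfv', smul_eq_mul, mul_one, sub_self])
    rw [map_sub, map_smul, show A1 x = 0 from hx, zero_sub, neg_eq_zero, smul_eq_zero] at h
    exact h.resolve_right hu

end CfsgLib.SLCommutator
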