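import Cfsg.Agent.SLCommutator.Counting
import Cfsg.Agent.SLCommutator.Select3

/-!
# The elimination step over the field with two elements
-/

set_option autoImplicit false

namespace CfsgLib.SLCommutator

open Module Submodule

variable {F V : Type*} [Field F] [Finite F] [AddCommGroup V] [Module F V] [Module.Finite F V]

theorem card_off_gen (h2 : Nat.card F = 2) (W : Submodule F V) (f r : Module.Dual F V) :
    Nat.card {x : V // x ∈ W ∧ f x ≠ 0 ∧ r x ≠ 0} * 4 ≤ 2 * 2 ^ finrank F W := by
  haveI : Finite V := Module.finite_of_finite F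
  have h1 := card_off_le W f
  have h5 : Nat.card {x : V // x ∈ W ∧ f x ≠ 0 ∧ r x ≠ 0} ≤ Nat.card {x : V // x ∈ W ∧ f x ≠ 0} :=
    Nat.card_le_card_of_injective (fun x => ⟨x.1, x.2.1, x.2.2.1⟩) fun x y h => by
      ext; exact congrArg (fun z => z.1) h
  rw [h2, card_submodule, h2] at h1
  omega

/-- A step over `F₂`, keeping the rank large. -/
theorem exists_step_two (h2 : Nat.card F = 2) {n : ℕ} (hn : 4 ≤ n) (hV : finrank F V = n) (a : V →ₗ[F] V)
    (hinj : Function.Injective a) (hrk : 3 ≤ finrank F (LinearMap.range (a - 1))) {c : V} {r : Module.Dual F V}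
    (hc : c ≠ 0) (hr : r ≠ 0) :
    ∃ (v : V) (f : Module.Dual F V), f v = 1 ∧ f (a v) = 1 ∧ f c ≠ 0 ∧ r v ≠ 0 ∧ a v ≠ v ∧ f.comp a ≠ f ∧
      (n - 2 ≤ finrank F ((LinearMap.ker f).map (a - 1)) - 1 ∨
        (4 ≤ finrank F ((LinearMap.ker f).map (a - 1))) ∨
        (3 ≤ finrank F ((LinearMap.ker f).map (a - 1)) ∧ (n = 4 ∨ a v ∉ (LinearMap.ker f).map (a - 1)))) := by
  classical
  haveI : Finite V := Module.finite_of_finite F
  haveI := Fintype.ofFinite F
  haveI := Fintype.ofFinite V
  have hF : ∀ x : F, x ≠ 0 → x = 1 := by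
    intro x hx
    have := FiniteField.pow_card_sub_one_eq_one x hx
    rw [← Nat.card_eq_fintype_card, h2] at this
    simpa using this
  set D := a - 1 with hD
  have hDa : ∀ x, D x = a x - x := fun x => by simp [hD]
  set rk := finrank F (LinearMap.range D) with hrkdef
  have hkD : finrank F (LinearMap.ker D) + rk = n := by
    have := LinearMap.finrank_range_add_finrank_ker D; omega
  have hd : finrank F (Module.Dual F V) = n := by rw [Subspace.dual_finrank_eq, hV]
  have pm : ∀ {x y : ℕ}, x ≤ y → 2 ^ x ≤ 2 ^ y := fun h => Nat.pow_le_pow_right (by norm_num) h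
  let P1 : Submodule F (Module.Dual F V) := (span F {r}).comap D.dualMap
  have hP1 : finrank F P1 + rk ≤ n + 1 := by
    have h1 := finrank_comap_le D.dualMap (span F {r})
    have h4 := LinearMap.finrank_range_add_finrank_ker D.dualMap
    rw [LinearMap.finrank_range_dualMap_eq_finrank_range] at h4
    rw [finrank_span_singleton hr] at h1
    show finrank F ((span F {r}).comap D.dualMap) + rk ≤ n + 1
    omega
  have hevalc : (Module.Dual.eval F V c : Module.Dual F (Module.Dual F V)) ≠ 0 :=
    fun h => hc ((Module.eval_apply_eq_zero_iff F c).1 h)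
  -- the functional
  obtain ⟨f, hfc, hf1, hker, hsp⟩ : ∃ f : Module.Dual F V, f c ≠ 0 ∧ f ∉ P1 ∧
      (rk < n → ∃ z, D z = 0 ∧ f z ≠ 0) ∧
      (rk = 3 → 5 ≤ n → (∃ z, D z = 0 ∧ r z = 0 ∧ f z ≠ 0) ∧
        (n = 5 → (∀ x ∈ LinearMap.range D, r x = 0) ∨ ∃ x ∈ LinearMap.range D, r x = 0 ∧ f x ≠ 0)) := by
    by_cases hs : rk = 3 ∧ 5 ≤ n
    · obtain ⟨h3, h5⟩ := hs
      obtain ⟨w, hw, hrw, hw0⟩ : ∃ w, D w = 0 ∧ r w = 0 ∧ w ≠ 0 := by
        have h : LinearMap.ker (r.comp (LinearMap.ker D).subtype) ≠ ⊥ := by
          intro hb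
          have h6 := LinearMap.finrank_range_add_finrank_ker (r.comp (LinearMap.ker D).subtype)
          have h7 : finrank F (LinearMap.range (r.comp (LinearMap.ker D).subtype)) ≤ 1 :=
            (Submodule.finrank_le _).trans (Module.finrank_self F).le
          rw [hb, finrank_bot] at h6
          omega
        obtain ⟨⟨w, hw⟩, hw1, hw2⟩ := Submodule.exists_mem_ne_zero_of_ne_bot h
        exact ⟨w, hw, hw1, fun e => hw2 (Subtype.ext e)⟩
      have hevalw : (Module.Dual.eval F V w : Module.Dual F (Module.Dual F V)) ≠ 0 :=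
        fun h => hw0 ((Module.eval_apply_eq_zero_iff F w).1 h)
      by_cases h6 : n = 5
      · -- dimension five
        haveI : Finite (Module.Dual F V) := Module.finite_of_finite F
        haveI := Fintype.ofFinite (Module.Dual F V)
        let P2 : Submodule F (Module.Dual F V) := (LinearMap.range D).dualAnnihilator ⊔ span F {r}
        have hP2 : finrank F P2 ≤ 3 := by
          refine (Submodule.finrank_add_le_finrank_add_finrank (LinearMap.range D).dualAnnihilator
            (span F {r})).trans ?_
          have h7 := Subspace.finrank_add_finrank_dualAnnihilator_eq (LinearMap.range D)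
          rw [finrank_span_singleton hr]
          omega
        have h16 : Nat.card {g : Module.Dual F V // g w ≠ 0} * 2 = 32 := by
          have := card_off_eq hevalw
          rw [h2, Module.natCard_eq_pow_finrank (K := F) (V := Module.Dual F V), h2, hd, h6] at this
          simpa [Module.Dual.eval_apply] using this
        have hb : ∀ (P : Submodule F (Module.Dual F V)) (k : ℕ), finrank F P ≤ k →
            (Finset.univ.filter fun g : Module.Dual F V => g ∈ P ∧ g w ≠ 0).card * 2 ≤ 2 ^ k := by
          intro P k hk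
          have h1 := card_off_le P (Module.Dual.eval F V w)
          have e : (Finset.univ.filter fun g : Module.Dual F V => g ∈ P ∧ g w ≠ 0).card =
              Nat.card {g : Module.Dual F V // g ∈ P ∧ Module.Dual.eval F V w g ≠ 0} := by
            rw [Nat.card_eq_fintype_card, Fintype.card_subtype]
            congr
          rw [h2, card_submodule, h2, ← e] at h1
          have := pm hk
          omega
        set S1 := Finset.univ.filter fun g : Module.Dual F V => g ∈ P1 ∧ g w ≠ 0 with hS1
        set S2 := Finset.univ.filter fun g : Module.Dual F V => g ∈ P2 ∧ g w ≠ 0 with hS2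
        have h12 : (S1 ∪ S2).card ≤ 7 := by
          have a1 := hb P1 3 (by omega)
          have a2 := hb P2 3 hP2
          rw [← hS1] at a1
          rw [← hS2] at a2
          have hu := Finset.card_union_add_card_inter S1 S2
          by_cases hwi : w ∈ LinearMap.range D
          · have : S2.card = 0 := by
              rw [Finset.card_eq_zero, Finset.eq_empty_iff_forall_notMem]
              intro g hg
              simp only [hS2, Finset.mem_filter, Finset.mem_univ, true_and] at hg
              obtain ⟨hgP, hgw⟩ := hg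
              obtain ⟨g1, hg1, g2, hg2, rfl⟩ := Submodule.mem_sup.1 hgP
              obtain ⟨t, rfl⟩ := Submodule.mem_span_singleton.1 hg2
              apply hgw
              rw [LinearMap.add_apply, (Submodule.mem_dualAnnihilator g1).1 hg1 w hwi, LinearMap.smul_apply, hrw,
                smul_zero, add_zero]
            omega
          · obtain ⟨g, hg, hgI⟩ := Submodule.exists_dual_map_eq_bot_of_notMem hwi inferInstance
            have hgA : g ∈ (LinearMap.range D).dualAnnihilator := (Submodule.mem_dualAnnihilator g).2 fun x hx =>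
              (Submodule.eq_bot_iff _).1 hgI _ (Submodule.mem_map_of_mem hx)
            have hgi : g ∈ S1 ∩ S2 := by
              simp only [hS1, hS2, Finset.mem_inter, Finset.mem_filter, Finset.mem_univ, true_and]
              refine ⟨⟨?_, hg⟩, Submodule.mem_sup_left hgA, hg⟩
              show D.dualMap g ∈ span F {r}
              have : D.dualMap g = 0 :=
                LinearMap.ext fun x => (Submodule.mem_dualAnnihilator g).1 hgA (D x) ⟨x, rfl⟩
              rw [this]; exact Submodule.zero_mem _
            have : 0 < (S1 ∩ S2).card := Finset.card_pos.2 ⟨g, hgi⟩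
            omega
        by_contra hcon
        push Not at hcon
        have hsub : (Finset.univ.filter fun g : Module.Dual F V => g w ≠ 0) ⊆
            (Finset.univ.filter fun g => g ∈ LinearMap.ker (Module.Dual.eval F V c) ∧ g w ≠ 0) ∪ (S1 ∪ S2) := by
          intro g hg
          simp only [Finset.mem_filter, Finset.mem_univ, true_and] at hg
          simp only [hS1, hS2, Finset.mem_union, Finset.mem_filter, Finset.mem_univ, true_and,
            LinearMap.mem_ker, Module.Dual.eval_apply]
          by_cases hgc : g c = 0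
          · exact Or.inl ⟨hgc, hg⟩
          by_cases hg1 : g ∈ P1
          · exact Or.inr (Or.inl ⟨hg1, hg⟩)
          refine Or.inr (Or.inr ⟨?_, hg⟩)
          obtain ⟨-, ⟨b, hb', hrb⟩, hcase⟩ := hcon g hgc hg1 (fun _ => ⟨w, hw, hg⟩) |>.2.2
            ⟨w, hw, hrw, hg⟩
          refine Submodule.mem_sup.2 ⟨g - (g b / r b) • r, ?_, _, Submodule.mem_span_singleton.2 ⟨_, rfl⟩,
            sub_add_cancel _ _⟩
          rw [Submodule.mem_dualAnnihilator]
          intro x hx
          have := hcase (x - (r x / r b) • b) (Submodule.sub_mem _ hx (Submodule.smul_mem _ _ hb'))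
            (by simp [div_mul_cancel₀ _ hrb])
          rw [map_sub, map_smul, smul_eq_mul] at this
          simp only [LinearMap.sub_apply, LinearMap.smul_apply, smul_eq_mul]
          field_simp at this ⊢
          linear_combination this
        have hk : finrank F (LinearMap.ker (Module.Dual.eval F V c)) ≤ 4 := by
          have h8 := LinearMap.finrank_range_add_finrank_ker (Module.Dual.eval F V c)
          rw [LinearMap.range_eq_top.2 (LinearMap.surjective hevalc), finrank_top, Module.finrank_self] at h8
          omega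
        have a0 := hb _ 4 hk
        have hle := (Finset.card_le_card hsub).trans (Finset.card_union_le _ _)
        rw [Nat.card_eq_fintype_card, Fintype.card_subtype] at h16
        omega
      · -- dimension at least six
        obtain ⟨f, hfc, hf⟩ := exists_avoid (Module.Dual.eval F V c) hevalc
          [P1, LinearMap.ker (Module.Dual.eval F V w)] (by
            simp only [List.map_cons, List.map_nil, List.sum_cons, List.sum_nil, add_zero, hd, h2]
            have h8 := LinearMap.finrank_range_add_finrank_ker (Module.Dual.eval F V w)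
            rw [LinearMap.range_eq_top.2 (LinearMap.surjective hevalw), finrank_top, Module.finrank_self] at h8
            have a1 := pm (show finrank F P1 ≤ n - 2 by omega)
            have a2 := pm (show finrank F (LinearMap.ker (Module.Dual.eval F V w)) ≤ n - 1 by omega)
            obtain ⟨m, rfl⟩ : ∃ m, n = m + 2 := ⟨n - 2, by omega⟩
            have e1 : 2 ^ (m + 2 - 2) = 2 ^ m := by rw [show m + 2 - 2 = m by omega]
            have e2 : 2 ^ (m + 2 - 1) = 2 * 2 ^ m := by rw [show m + 2 - 1 = m + 1 by omega]; ring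
            have e3 : 2 ^ (m + 2) = 4 * 2 ^ m := by ring
            have := Nat.one_le_two_pow (n := m)
            omega)
        simp only [List.mem_cons, List.not_mem_nil, or_false, forall_eq_or_imp, forall_eq] at hf
        exact ⟨f, hfc, hf.1, fun _ => ⟨w, hw, hf.2⟩, fun _ _ => ⟨⟨w, hw, hrw, hf.2⟩, fun h => absurd h h6⟩⟩
    · obtain ⟨f, hfc, hf⟩ := exists_avoid (Module.Dual.eval F V c) hevalc
        [P1, if rk < n then (LinearMap.ker D).dualAnnihilator else ⊥] (by
          simp only [List.map_cons, List.map_nil, List.sum_cons, List.sum_nil, add_zero, hd, h2]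
          have a1 := pm (show finrank F P1 ≤ n - 2 by omega)
          have a2 := pm (show finrank F ↥(if rk < n then (LinearMap.ker D).dualAnnihilator else ⊥) ≤ n - 1 by
            by_cases h : rk < n
            · rw [finrank_congr (if_pos h), finrank_ann_ker]; omega
            · rw [finrank_congr (if_neg h), finrank_bot]; omega)
          obtain ⟨m, rfl⟩ : ∃ m, n = m + 2 := ⟨n - 2, by omega⟩
          have e1 : 2 ^ (m + 2 - 2) = 2 ^ m := by rw [show m + 2 - 2 = m by omega]
          have e2 : 2 ^ (m + 2 - 1) = 2 * 2 ^ m := by rw [show m + 2 - 1 = m + 1 by omega]; ring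
          have e3 : 2 ^ (m + 2) = 4 * 2 ^ m := by ring
          have := Nat.one_le_two_pow (n := m)
          omega)
      simp only [List.mem_cons, List.not_mem_nil, or_false, forall_eq_or_imp, forall_eq] at hf
      refine ⟨f, hfc, hf.1, fun h => ?_, fun h h' => absurd ⟨h, h'⟩ hs⟩
      by_contra hz
      push Not at hz
      exact hf.2 (by rw [if_pos h]; exact (Submodule.mem_dualAnnihilator f).2 fun x hx => hz x hx)
  have hfD : ∀ t : F, f.comp D ≠ t • r := fun t h => hf1 (show D.dualMap f ∈ span F {r} from
    Submodule.mem_span_singleton.2 ⟨t, h.symm⟩)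
  set E := LinearMap.ker (f.comp D) with hE
  have hEdim : finrank F E + 1 = n := by
    have h := LinearMap.finrank_range_add_finrank_ker (f.comp D)
    have : LinearMap.range (f.comp D) = ⊤ :=
      LinearMap.range_eq_top.2 (LinearMap.surjective (fun h0 => hfD 0 (by rw [zero_smul]; exact h0)))
    rw [this, finrank_top, Module.finrank_self] at h
    rw [hE]
    omega
  have hprop : ∀ g : Module.Dual F V, g ≠ 0 → (∀ x ∈ E, g x = 0) → g = f.comp D := by
    intro g hg0 hg
    obtain ⟨y, hy⟩ : ∃ y, f.comp D y ≠ 0 := by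
      by_contra hh; push Not at hh
      exact hfD 0 (by rw [zero_smul]; exact LinearMap.ext hh)
    have hy1 := hF _ hy
    have hx : ∀ x, g x = f.comp D x * g y := fun x => by
      have := hg (x - (f.comp D x) • y) (by
        rw [hE, LinearMap.mem_ker, map_sub, map_smul, smul_eq_mul, hy1, mul_one, sub_self])
      rwa [map_sub, map_smul, smul_eq_mul, sub_eq_zero] at this
    have hgy : g y = 1 := hF _ fun h0 => hg0 (LinearMap.ext fun x => by simp [hx x, h0])
    exact LinearMap.ext fun x => by rw [hx, hgy, mul_one]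
  have hfE : ∃ x ∈ E, f x ≠ 0 := by
    by_contra hh; push Not at hh
    have hf0 : f ≠ 0 := fun h => hfc (by simp [h])
    have hfd := hprop f hf0 hh
    refine hf0 (LinearMap.ext fun x => ?_)
    obtain ⟨y, rfl⟩ := (LinearMap.injective_iff_surjective.1 hinj) x
    have := LinearMap.congr_fun hfd y
    rw [LinearMap.comp_apply, hDa, map_sub] at this
    rw [LinearMap.zero_apply]
    have h20 : (2 : F) = 0 := by
      have hcast : ((Fintype.card F : ℕ) : F) = 0 := FiniteField.cast_card_eq_zero F
      rw [← Nat.card_eq_fintype_card, h2] at hcast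
      simpa using hcast
    linear_combination f y * h20 - this
  have hrE : ∃ x ∈ E, r x ≠ 0 := by
    by_contra hh; push Not at hh
    exact hfD 1 (by rw [one_smul]; exact (hprop r hr hh).symm)
  have hlow : 2 ^ (n - 1) ≤ Nat.card {x : V // x ∈ E ∧ f x ≠ 0 ∧ r x ≠ 0} * 4 := by
    by_cases hx : ∃ x ∈ E, r x = 0 ∧ f x ≠ 0
    · obtain ⟨p, hp, hrp, hfp⟩ := hx
      obtain ⟨q, hq, hrq⟩ := hrE
      let Ψ : E →ₗ[F] F × F := (f.comp E.subtype).prod (r.comp E.subtype)
      have hsurj : Function.Surjective Ψ := by
        rintro ⟨s, t⟩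
        refine ⟨((s - t / r q * f q) / f p) • ⟨p, hp⟩ + (t / r q) • ⟨q, hq⟩, ?_⟩
        ext
        · simp [Ψ, div_mul_cancel₀ _ hfp]
        · simp [Ψ, hrp, div_mul_cancel₀ _ hrq]
      have key := card_subtype_of_surjective E Ψ hsurj (fun u => u.1 ≠ 0 ∧ u.2 ≠ 0)
      have he : Nat.card {x : E // (Ψ x).1 ≠ 0 ∧ (Ψ x).2 ≠ 0} =
          Nat.card {x : V // x ∈ E ∧ f x ≠ 0 ∧ r x ≠ 0} :=
        Nat.card_congr (Equiv.subtypeSubtypeEquivSubtypeInter (fun x => x ∈ E) (fun x => f x ≠ 0 ∧ r x ≠ 0))
      have h4 : Nat.card {u : F × F // u.1 ≠ 0 ∧ u.2 ≠ 0} = 1 := by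
        rw [Nat.card_congr (Equiv.subtypeProdEquivProd (p := fun a : F => a ≠ 0) (q := fun b : F => b ≠ 0)),
          Nat.card_prod, Nat.card_eq_fintype_card, Fintype.card_subtype_compl, Fintype.card_subtype_eq,
          ← Nat.card_eq_fintype_card, h2]
      rw [he, h4, Nat.card_prod, h2, card_submodule, h2, show finrank F E = n - 1 by omega] at key
      omega
    · push Not at hx
      have he : Nat.card {x : V // x ∈ E ∧ f x ≠ 0 ∧ r x ≠ 0} = Nat.card {x : E // f.comp E.subtype x ≠ 0} :=
        Nat.card_congr
          { toFun := fun x => ⟨⟨x.1, x.2.1⟩, x.2.2.1⟩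
            invFun := fun x => ⟨x.1.1, x.1.2, x.2, fun h => x.2 (hx x.1.1 x.1.2 h)⟩
            left_inv := fun _ => rfl
            right_inv := fun _ => rfl }
      obtain ⟨p, hp, hfp⟩ := hfE
      have key := card_subtype_of_surjective E (f.comp E.subtype)
        (LinearMap.surjective (fun h => hfp (LinearMap.congr_fun h ⟨p, hp⟩))) (fun u => u ≠ 0)
      have h4 : Nat.card {u : F // u ≠ 0} = 1 := by
        rw [Nat.card_eq_fintype_card, Fintype.card_subtype_compl, Fintype.card_subtype_eq,
          ← Nat.card_eq_fintype_card, h2]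
      rw [← he, h4, h2, card_submodule, h2, show finrank F E = n - 1 by omega] at key
      omega
  -- the vector
  obtain ⟨v, hvE, hfv, hrv, hvD, hvI⟩ : ∃ v, v ∈ E ∧ f v ≠ 0 ∧ r v ≠ 0 ∧ D v ≠ 0 ∧
      (rk = 3 → 5 ≤ n → v ∉ LinearMap.range D) := by
    by_contra hh
    push Not at hh
    let W : Submodule F V := if rk = 3 ∧ 5 ≤ n then LinearMap.range D else ⊥
    let N : Submodule F V → ℕ := fun W => Nat.card {x : V // x ∈ W ∧ f x ≠ 0 ∧ r x ≠ 0}
    have hle : Nat.card {x : V // x ∈ E ∧ f x ≠ 0 ∧ r x ≠ 0} ≤ N (LinearMap.ker D) + N W := by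
      simp only [N, Nat.card_eq_fintype_card, Fintype.card_subtype]
      refine le_trans (Finset.card_le_card ?_) (Finset.card_union_le _ _)
      intro x hx
      simp only [Finset.mem_filter, Finset.mem_univ, true_and, Finset.mem_union] at hx ⊢
      obtain ⟨hxE, hxf, hxr⟩ := hx
      by_cases h1 : D x = 0
      · exact Or.inl ⟨h1, hxf, hxr⟩
      · obtain ⟨h3, h5, h6⟩ := hh x hxE hxf hxr h1
        refine Or.inr ⟨?_, hxf, hxr⟩
        simp only [W]
        rw [if_pos ⟨h3, h5⟩]
        exact h6
    dsimp only [N] at hle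
    have g0 := card_off_gen h2 (LinearMap.ker D) f r
    have g1 := card_off_gen h2 W f r
    by_cases hs : rk = 3 ∧ 5 ≤ n
    · obtain ⟨⟨z, hz, hrz, hfz⟩, h5case⟩ := hsp hs.1 hs.2
      have t0 := card_off_two (LinearMap.ker D) f r (Or.inr ⟨z, hz, hrz, hfz⟩)
      rw [h2, card_submodule, h2, show finrank F (LinearMap.ker D) = n - 3 by omega] at t0
      rw [finrank_congr (show W = LinearMap.range D from if_pos hs), ← hrkdef, hs.1] at g1
      simp only [Nat.reduceSub, Nat.reducePow, one_pow, one_mul, Nat.reduceMul] at t0 g1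
      by_cases h6 : n = 5
      · have t1 := card_off_two W f r (by
          simp only [W]; rw [if_pos hs]; exact h5case h6)
        rw [h2, card_submodule, h2, finrank_congr (show W = LinearMap.range D from if_pos hs), ← hrkdef,
          hs.1] at t1
        simp only [Nat.reduceSub, Nat.reducePow, one_pow, one_mul, Nat.reduceMul] at t1
        subst h6
        simp only [Nat.reduceSub, Nat.reducePow] at t0 hlow
        omega
      · obtain ⟨m, rfl⟩ : ∃ m, n = m + 6 := ⟨n - 6, by omega⟩
        have e1 : 2 ^ (m + 6 - 3) = 8 * 2 ^ m := by rw [show m + 6 - 3 = m + 3 by omega]; ring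
        have e2 : 2 ^ (m + 6 - 1) = 32 * 2 ^ m := by rw [show m + 6 - 1 = m + 5 by omega]; ring
        have := Nat.one_le_two_pow (n := m)
        omega
    · have hW0 : Nat.card {x : V // x ∈ W ∧ f x ≠ 0 ∧ r x ≠ 0} = 0 := by
        have : IsEmpty {x : V // x ∈ W ∧ f x ≠ 0 ∧ r x ≠ 0} := ⟨fun ⟨x, hx, hfx, _⟩ => by
          simp only [W] at hx
          rw [if_neg hs, Submodule.mem_bot] at hx
          exact hfx (by rw [hx, map_zero])⟩
        exact Nat.card_eq_zero.2 (Or.inl this)
      have a0 := pm (show finrank F (LinearMap.ker D) ≤ n - 3 by omega)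
      obtain ⟨m, rfl⟩ : ∃ m, n = m + 3 := ⟨n - 3, by omega⟩
      have e1 : 2 ^ (m + 3 - 3) = 2 ^ m := by rw [show m + 3 - 3 = m by omega]
      have e2 : 2 ^ (m + 3 - 1) = 4 * 2 ^ m := by rw [show m + 3 - 1 = m + 2 by omega]; ring
      have := Nat.one_le_two_pow (n := m)
      omega
  have hfv1 := hF _ hfv
  have hfDv : f (D v) = 0 := hvE
  refine ⟨v, f, hfv1, ?_, hfc, hrv, fun h => hvD (by rw [hDa, h, sub_self]), fun h => hfD 0 ?_, ?_⟩
  · rw [hDa, map_sub, sub_eq_zero] at hfDv
    rw [hfDv, hfv1]
  · rw [zero_smul]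
    ext x
    rw [LinearMap.comp_apply, hDa, map_sub, ← LinearMap.comp_apply, h, sub_self, LinearMap.zero_apply]
  rcases Nat.lt_or_ge rk n with hlt | hge
  · obtain ⟨z, hz, hfz⟩ := hker hlt
    have heq : (LinearMap.ker f).map D = LinearMap.range D := le_antisymm LinearMap.map_le_range
      (mem_span_pair_of_forall hz hfz fun x hx => ⟨x, hx, rfl⟩)
    rw [heq]
    rcases Nat.lt_or_ge rk 4 with h | h
    · refine Or.inr (Or.inr ⟨hrk, ?_⟩)
      by_cases h4 : n = 4
      · exact Or.inl h4
      · refine Or.inr fun hav => hvI (by omega) (by omega) ?_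
        have : v = a v - D v := by rw [hDa, sub_sub_cancel]
        rw [this]
        exact Submodule.sub_mem _ hav ⟨v, rfl⟩
    · exact Or.inr (Or.inl h)
  · left
    have hk0 : LinearMap.ker D = ⊥ := Submodule.finrank_eq_zero.1 (by omega)
    have h7 : finrank F ((LinearMap.ker f).map D) = finrank F (LinearMap.ker f) :=
      (Submodule.equivMapOfInjective D (LinearMap.ker_eq_bot.1 hk0) _).finrank_eq.symm
    have h8 := LinearMap.finrank_range_add_finrank_ker f
    have h9 : finrank F (LinearMap.range f) ≤ 1 := (Submodule.finrank_le _).trans (Module.finrank_self F).le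
    omega

end CfsgLib.SLCommutator
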