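import Mathlib

/-!
# Finite checks for the elimination step over the field with three elements in dimensions two and three
-/

set_option autoImplicit false

namespace CfsgLib.SLCommutator.Small3

abbrev Z := ZMod 3

/-- Vectors with three entries. -/
abbrev T := Z × Z × Z

def zs : List Z := [0, 1, 2]

def ts : List T := zs.flatMap fun a => zs.flatMap fun b => zs.map fun c => (a, b, c)

/-- Representatives of the nonzero vectors up to sign. -/
def proj : List T :=
  (zs.flatMap fun b => zs.map fun c => ((1, b, c) : T)) ++ (zs.map fun c => ((0, 1, c) : T)) ++ [(0, 0, 1)]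

def dot : T → T → Z := fun (a, b, c) (x, y, z) => a * x + b * y + c * z

def cross : T → T → T := fun (a, b, c) (x, y, z) => (b * z - c * y, c * x - a * z, a * y - b * x)

def sub : T → T → T := fun (a, b, c) (x, y, z) => (a - x, b - y, c - z)

def add : T → T → T := fun (a, b, c) (x, y, z) => (a + x, b + y, c + z)

/-- Matrices by rows. -/
abbrev M := T × T × T

def mulV : M → T → T := fun (p, q, s) v => (dot p v, dot q v, dot s v)

def vMul : T → M → T := fun (a, b, c) ((p1, p2, p3), (q1, q2, q3), (s1, s2, s3)) =>
  (a * p1 + b * q1 + c * s1, a * p2 + b * q2 + c * s2, a * p3 + b * q3 + c * s3)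

/-- Spanning set of the kernel of a functional. -/
def kers : T → List T := fun f => [cross f (1, 0, 0), cross f (0, 1, 0), cross f (0, 0, 1)]

def step (A : M) (c r f v : T) : Bool :=
  let w := mulV A v
  let ks := kers f
  dot f v == 1 && dot f w == 1 && dot f c != 0 && dot r v != 0 && w != v && vMul f A != f &&
    (ks.any fun x => ks.any fun y =>
      dot w (cross (sub (mulV A x) x) (sub (mulV A y) y)) != 0) &&
    (ks.any fun x => cross (add (mulV A x) x) w != (0, 0, 0))

def good (A : M) (c r : T) : Bool :=
  ts.any fun f => dot f c != 0 && ts.any fun v => dot r v != 0 && dot f v == 1 && step A c r f v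

def det : M → Z := fun (p, q, s) => dot p (cross q s)

/-- `A - 1` has rank at least two. -/
def notSmall : M → Bool := fun A =>
  let p := sub A.1 (1, 0, 0)
  let q := sub A.2.1 (0, 1, 0)
  let s := sub A.2.2 (0, 0, 1)
  cross p q != (0, 0, 0) || cross p s != (0, 0, 0) || cross q s != (0, 0, 0)

def smulT : Z → T → T := fun a (x, y, z) => (a * x, a * y, a * z)

/-- Every column satisfies the quadratic relation. -/
def isQuad (A : M) (a b : Z) : Bool :=
  [((1, 0, 0) : T), (0, 1, 0), (0, 0, 1)].all fun x =>
    mulV A (mulV A x) == add (smulT a (mulV A x)) (smulT b x)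

/-- The normal forms: companion matrices, and matrices with a quadratic relation. -/
def forms : List M :=
  ((zs.flatMap fun b => zs.map fun g => (((0, 0, 1), (1, 0, b), (0, 1, g)) : M)) ++
    ((zs.flatMap fun a => zs.flatMap fun b => zs.flatMap fun p => zs.flatMap fun s => zs.map fun m =>
      ((((0, b, p), (1, a, s), (0, 0, m)) : M), a, b)).filter (fun x => isQuad x.1 x.2.1 x.2.2)).map
      Prod.fst).filter
    fun A => det A == 1 && notSmall A

theorem forms_good : (forms.all fun A => proj.all fun c => proj.all fun r => good A c r) = true := by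
  decide +kernel

theorem proj_spec : (ts.all fun v => v == (0, 0, 0) || proj.contains v || proj.contains (smulT 2 v)) = true := by
  decide +kernel

/-- Vectors with two entries. -/
abbrev P := Z × Z

def ps : List P := zs.flatMap fun a => zs.map fun b => (a, b)

def good2 (b : Z) (c r : P) : Bool :=
  ps.any fun f => (f.1 * c.1 + f.2 * c.2 != 0) && ps.any fun v =>
    let w : P := (2 * v.2, v.1 + b * v.2)
    f.1 * v.1 + f.2 * v.2 == 1 && f.1 * w.1 + f.2 * w.2 == 1 && r.1 * v.1 + r.2 * v.2 != 0 && w != v &&
      ((f.2, f.1 * 2 + f.2 * b) : P) != f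

theorem good2_all : ([(0 : Z), 1].all fun b => ps.all fun c => ps.all fun r =>
    c == (0, 0) || r == (0, 0) || good2 b c r) = true := by
  decide +kernel

end CfsgLib.SLCommutator.Small3
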